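import Cfsg.Agent.Lib.Known.OrthLift.Transport
import Cfsg.Agent.Lib.Known.SplitLift.Descend
import Cfsg.Agent.Lib.Known.SplitLift.OddNodes

/-!
# The bound on the multiplier of the odd orthogonal groups
-/

set_option autoImplicit false
set_option linter.unusedSectionVars false
set_option linter.unusedSimpArgs false

namespace CfsgLib.Known.OrthCase

open Matrix CfsgLib.Classical CfsgLib.TwistBN CfsgLib.PronormalPSL CfsgLib.PronormalPSU
open CfsgLib.Fusion.UniTri CfsgLib.Known.OrthLift CfsgLib.OrthMinIndex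

universe u

variable {F : Type u} [Field F] [Fintype F]

theorem quadOdd_polar (m : ℕ) (v w : OddI m → F) : QuadraticMap.polar (qOdd m F) v w =
    2 * (v oZ * w oZ) + ∑ i : Fin m, (v (oL i) * w (oR i) + w (oL i) * v (oR i)) := by
  rw [QuadraticMap.polar, qOdd_apply, qOdd_apply, qOdd_apply]
  simp only [Pi.add_apply]
  have : ∀ i : Fin m, (v (oL i) + w (oL i)) * (v (oR i) + w (oR i)) =
      v (oL i) * v (oR i) + w (oL i) * w (oR i) + (v (oL i) * w (oR i) + w (oL i) * v (oR i)) :=
    fun i => by ring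
  simp only [this, Finset.sum_add_distrib]
  ring

/-- The standard pairs. -/
noncomputable def oddFrame (m : ℕ) : Frame (qOdd m F) m where
  e i := Pi.single (oL i) 1
  f i := Pi.single (oR i) 1
  pair i := by
    constructor <;> simp [qOdd_apply, quadOdd_polar, Pi.single_apply, oL, oR, oZ]
  ee i j h := by simp [quadOdd_polar, Pi.single_apply, oL, oR, oZ]
  ef i j h := by simp [quadOdd_polar, Pi.single_apply, oL, oR, oZ, h, Ne.symm h]
  ff i j h := by simp [quadOdd_polar, Pi.single_apply, oL, oR, oZ]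

theorem map_center_equiv {G H : Type*} [Group G] [Group H] (e : G ≃* H) :
    (Subgroup.center G).map e.toMonoidHom = Subgroup.center H := by
  ext x
  constructor
  · rintro ⟨a, ha, rfl⟩
    exact Subgroup.mem_center_iff.2 fun y => e.symm.injective (by
      simpa using Subgroup.mem_center_iff.1 ha (e.symm y))
  · intro hx
    exact ⟨e.symm x, Subgroup.mem_center_iff.2 fun y => e.injective (by
      simpa using Subgroup.mem_center_iff.1 hx (e y)), e.apply_symm_apply x⟩

theorem not_dvd_of_mul_pred {p q : ℕ} (hp : p.Prime) (hpq : p ∣ q) (hq : 1 ≤ q) (s : Finset ℕ) :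
    ¬ p ∣ ∏ i ∈ s, (q ^ (2 * (i + 1)) - 1) := fun h => by
  obtain ⟨i, -, hi⟩ := hp.prime.exists_mem_finset_dvd h
  have h1 : p ∣ q ^ (2 * (i + 1)) := hpq.trans (dvd_pow_self q (by omega))
  have h2 := Nat.dvd_sub h1 hi
  rw [Nat.sub_sub_self (Nat.one_le_pow _ _ hq)] at h2
  exact hp.ne_one (Nat.dvd_one.1 h2)

/-- The torus of the fixed points contains a split torus of rank `m`. -/
theorem card_torus_odd (m : ℕ) (C : Ctx (1 : Fin (2 * m + 1) → Fˣ) (RingEquiv.refl F)) :
    (Fintype.card F - 1) ^ m ≤ Nat.card ↥((bnPair C).B ⊓ (bnPair C).N) := by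
  classical
  let c : (Fin m → Fˣ) → Fin (2 * m + 1) → Fˣ := fun v i =>
    if h : i.val < m then v ⟨i.val, h⟩ else if h' : i.val = m then 1 else (v ⟨2 * m - i.val, by omega⟩)⁻¹
  have hc : ∀ v i, c v i * c v (Fin.rev i) = 1 := fun v i => by
    have := i.isLt
    have e : (Fin.rev i).val = 2 * m - i.val := by rw [Fin.val_rev]; omega
    simp only [c, e]
    split_ifs <;> first | omega | simp | (have e2 : 2 * m - (2 * m - i.val) = i.val := by omega
                                          simp [e2])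
  have hdet : ∀ v, ∏ i, c v i = 1 := fun v => by
    refine Finset.prod_involution (fun i _ => Fin.rev i) (fun i _ => hc v i) (fun i _ hi he => hi ?_)
      (fun _ _ => Finset.mem_univ _) (fun i _ => Fin.rev_rev i)
    have e : (Fin.rev i).val = i.val := congrArg Fin.val he
    rw [Fin.val_rev] at e
    have := i.isLt
    simp only [c]
    rw [dif_neg (by omega), dif_pos (by omega)]
  have hmem : ∀ v, dg (c v) ∈ fixS (1 : Fin (2 * m + 1) → Fˣ) (RingEquiv.refl F) := fun v => by
    refine mem_fixS.2 ⟨(th_eq_iff _ _ _).2 ?_, ?_⟩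
    · rw [RingEquiv.coe_refl, Matrix.map_id, dg_val, Matrix.diagonal_transpose]
      refine Matrix.ext fun i j => ?_
      rw [Matrix.mul_diagonal, Matrix.diagonal_mul]
      simp only [TwistBN.gram, Matrix.of_apply, Pi.one_apply, Units.val_one]
      split_ifs with h
      · subst h; rw [mul_one, ← Units.val_mul, hc, Units.val_one]
      · rw [mul_zero, zero_mul]
    · rw [dg_val, Matrix.det_diagonal, ← Units.coe_prod, hdet, Units.val_one]
  let f : (Fin m → Fˣ) → ↥((bnPair C).B ⊓ (bnPair C).N) := fun v =>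
    ⟨⟨dg (c v), hmem v⟩, mem_torus.2 (mono_dg _)⟩
  have hf : Function.Injective f := fun v w e => funext fun i => by
    have := congrArg (fun x : ↥((bnPair C).B ⊓ (bnPair C).N) =>
      ((x.1 : fixS _ _) : GL (Fin (2 * m + 1)) F).1 ⟨i.val, by omega⟩ ⟨i.val, by omega⟩) e
    simpa [f, dg_val, c, i.isLt, Units.val_inj] using this
  refine le_of_eq_of_le ?_ (Nat.card_le_card_of_injective f hf)
  rw [Nat.card_pi, Finset.prod_const, Finset.card_univ, Fintype.card_fin, Nat.card_eq_fintype_card,
    Fintype.card_units]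

/-- Stem extensions of `Ω_{2m+1}(q)` have kernels of order at most two. -/
theorem omega_odd_stem_le {q : ℕ} (hF : Fintype.card F = q) (hq : Odd q) (m : ℕ) (hm : 3 ≤ m)
    (hexc : ¬ (m = 3 ∧ q = 3))
    (E : Type u) [Group E] [Finite E] (σ : E →* Cfsg.Omega F (Cfsg.quadFormOdd m F))
    (hσ : Cfsg.IsStemExtension σ) : Nat.card σ.ker ≤ 2 := by
  classical
  obtain ⟨p, hchar⟩ := CharP.exists F
  obtain ⟨a, hp, ha⟩ := FiniteField.card F p
  haveI : Fact p.Prime := ⟨hp⟩
  obtain ⟨hp2, C, N, hN, ⟨e⟩⟩ := omega_odd_equiv (F := F) p (hF ▸ hq) m (by omega)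
  have h2 : (2 : F) ≠ 0 := fun h => hp2 ((Nat.prime_dvd_prime_iff_eq hp Nat.prime_two).1
    ((CharP.cast_eq_zero_iff F p 2).1 (by exact_mod_cast h)))
  have hQ : PolarNondeg (qOdd m F) := polarNondeg_qOdd h2 m
  have hQc : ⇑(qOdd m F) = Cfsg.quadFormOdd m F := coe_qOdd m F
  have hι : Fintype.card (OddI m) = 2 * m + 1 := by simp [OddI]; omega
  revert e σ
  rw [← hQc]
  intro σ hσ e
  refine SplitLift.stem_card_le p (N := 2) ?_ ?_ E σ hσ
  · -- the defining characteristic
    intro E' _ _ σ' hσ' hk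
    have hfr : Module.finrank F (OddI m → F) = 2 * m + 1 := by rw [Module.finrank_pi, hι]
    refine omega_stem_pgroup hQ (by omega) hp (fun h => ?_) (fun _ h8 => by omega) (oddFrame m)
      (c := (∏ i ∈ Finset.range m, (Fintype.card F ^ (2 * (i + 1)) - 1)) / 2) ?_ ?_ E' σ' hσ' hk
    · have : q = 3 := by
        obtain ⟨r, hr⟩ := hq
        have := Fintype.one_lt_card (α := F)
        omega
      omega
    · have h1 := card_eich_mul_index hQ (by omega)
      rw [index_commutator_odd _ h2 hQ (by omega), card_qAut_qOdd, card_qAut_line h2] at h1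
      have hev : 2 ∣ ∏ i ∈ Finset.range m, (Fintype.card F ^ (2 * (i + 1)) - 1) := by
        refine Dvd.dvd.trans ?_ (Finset.dvd_prod_of_mem _ (Finset.mem_range.2 (show 0 < m by omega)))
        rw [hF]
        exact (Nat.Odd.sub_odd hq.pow odd_one).two_dvd
      obtain ⟨r, hr⟩ := hev
      rw [hr, Nat.mul_div_cancel_left r (by norm_num), hι, show 2 * m + 1 - m - 1 = m by omega]
      rw [hr] at h1
      rw [sq] at h1
      nlinarith [h1]
    · intro h
      refine not_dvd_of_mul_pred hp (ha ▸ dvd_pow_self p a.ne_zero) Fintype.card_pos (Finset.range m) ?_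
      refine h.trans (Nat.div_dvd_of_dvd ?_)
      refine Dvd.dvd.trans ?_ (Finset.dvd_prod_of_mem _ (Finset.mem_range.2 (show 0 < m by omega)))
      rw [hF]
      exact (Nat.Odd.sub_odd hq.pow odd_one).two_dvd
  · -- the coprime part
    intro E' _ _ σ' hσ' hco
    obtain ⟨n₀, hn₀, hopp⟩ := SplitLift.exists_opp_twisted C (p := p)
    haveI : N.Normal := Subgroup.normal_of_index_eq_two hN
    have hUN := (TwistBN.split C p).le_of_index_two hp2 N hN
    have hω : commutator (Cfsg.Omega F ⇑(qOdd m F)) = ⊤ := commutator_omega_eq_top hQ (by omega)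
    have hNp : commutator N = ⊤ := by
      have := congrArg (Subgroup.map e.toMonoidHom) hω
      rwa [commutator_def, Subgroup.map_commutator, Subgroup.map_top_of_surjective _ e.surjective,
        ← commutator_def] at this
    haveI : IsSimpleGroup (N ⧸ Subgroup.center N) := by
      haveI : IsSimpleGroup (Cfsg.POmega F ⇑(qOdd m F)) := isSimpleGroup_POmega _ hQ (by omega)
      have hmap : (Subgroup.center (Cfsg.Omega F ⇑(qOdd m F))).map e.toMonoidHom =
          Subgroup.center N := map_center_equiv e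
      haveI : Nontrivial (N ⧸ Subgroup.center N) :=
        (QuotientGroup.congr _ _ e hmap).toEquiv.symm.nontrivial
      exact IsSimpleGroup.isSimpleGroup_of_surjective (QuotientGroup.congr _ _ e hmap).toMonoidHom
        (QuotientGroup.congr _ _ e hmap).surjective
    have hgen : ∀ M : Subgroup N, M.Normal →
        (unipU (1 : Fin (2 * m + 1) → Fˣ) (RingEquiv.refl F)).subgroupOf N ≤ M → M = ⊤ := by
      intro M _ hM
      refine SplitLift.eq_top_of_normal hNp M fun hle => ?_
      obtain ⟨u, hu, hfix, hbd, hne⟩ := C.node 0 (by omega)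
      have huN : (⟨u, hfix⟩ : fixS _ _) ∈ N := hUN hu
      have hz : (⟨⟨u, hfix⟩, huN⟩ : N) ∈ Subgroup.center N := hle (hM hu)
      obtain ⟨r₀, he₀, h'⟩ := SplitLift.exists_opp_normal hopp N hUN
      have h1 := h'.opp _ (show (⟨⟨u, hfix⟩, huN⟩ : N) ∈
          (unipU (1 : Fin (2 * m + 1) → Fˣ) (RingEquiv.refl F)).subgroupOf N from hu) (by
        rw [mul_assoc, ← Subgroup.mem_center_iff.1 hz r₀, inv_mul_cancel_left]
        exact Subgroup.mem_subgroupOf.2 (uni_le_upper hu))
      exact hne (congrArg (fun x : N =>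
        ((x : fixS (1 : Fin (2 * m + 1) → Fˣ) (RingEquiv.refl F)) : GL (Fin (2 * m + 1)) F)) h1)
    haveI : Fintype (bnPair C).S := Fintype.ofFinite _
    let τ : E' →* N := e.toMonoidHom.comp σ'
    have hτk : τ.ker = σ'.ker := by ext x; simp [τ, MonoidHom.mem_ker]
    have hτ : Cfsg.IsStemExtension τ := ⟨e.surjective.comp hσ'.1, hτk ▸ hσ'.2.1, hτk ▸ hσ'.2.2⟩
    have hb := SplitLift.card_coprime_normal_le hopp N hUN hNp hgen (fun _ => Fintype.card F - 1)
      (by
        rintro _ ⟨⟨k, hk⟩, rfl⟩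
        have h1 : 1 ≤ Fintype.card F - 1 := by have := Fintype.one_lt_card (α := F); omega
        refine ⟨F, inferInstance, inferInstance, inferInstance, ?_⟩
        by_cases hk4 : 2 * k + 4 ≤ 2 * m + 1
        · exact ⟨_, SplitLift.Odd.short_rankOne C hn₀ hopp hk4, le_rfl, h1⟩
        · exact ⟨_, SplitLift.Odd.mid_rankOne C hn₀ hopp h2 (show 2 * k + 3 = 2 * m + 1 by omega), le_rfl, h1⟩)
      E' τ hτ (hτk ▸ hco)
    rw [hτk, Finset.prod_const, Finset.card_univ] at hb
    have hS : Fintype.card (bnPair C).S ≤ m := by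
      refine le_trans (le_of_eq_of_le Nat.card_eq_fintype_card.symm ?_) (le_of_eq (Nat.card_fin m))
      refine Nat.card_le_card_of_surjective
        (fun k : Fin m => (⟨sRep C k.val (by omega), ⟨k.val, by omega⟩, rfl⟩ : (bnPair C).S)) ?_
      rintro ⟨_, ⟨k, hk⟩, rfl⟩
      exact ⟨⟨k, by omega⟩, rfl⟩
    have hT := (card_torus_odd m C).trans (SplitLift.card_torus_index_two N hN _)
    have hq1 : 0 < Fintype.card F - 1 := by have := Fintype.one_lt_card (α := F); omega
    have hT' : Nat.card ↥(((bnPair C).B ⊓ (bnPair C).N) ⊓ N : Subgroup _) =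
        Nat.card ↥(((bnPair C).B ⊓ (bnPair C).N).subgroupOf N) := by
      rw [← Subgroup.inf_subgroupOf_right]
      exact (Nat.card_congr (Subgroup.subgroupOfEquivOfLe inf_le_right).toEquiv).symm
    rw [hT'] at hT
    have hb' := hb.trans (Nat.pow_le_pow_right hq1 hS)
    set k := Nat.card σ'.ker
    set t := Nat.card ↥(((bnPair C).B ⊓ (bnPair C).N).subgroupOf N)
    set X := (Fintype.card F - 1) ^ m
    have hX : 0 < X := pow_pos hq1 m
    refine Nat.le_of_mul_le_mul_right ?_ hX
    calc k * X ≤ k * (2 * t) := Nat.mul_le_mul le_rfl hT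
      _ = 2 * (k * t) := by ring
      _ ≤ 2 * X := Nat.mul_le_mul le_rfl hb'

end CfsgLib.Known.OrthCase
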