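import Cfsg.Agent.Lib.Known.OrthLift.Transport
import Cfsg.Agent.Lib.Known.SplitLift.Descend
import Cfsg.Agent.Lib.Known.OrthCase.Odd

/-!
# The coprime bound for groups isomorphic to `Ω`
-/

set_option autoImplicit false
set_option linter.unusedSectionVars false

namespace CfsgLib.Known.OrthCase

open Matrix CfsgLib.Classical CfsgLib.Known.OrthLift

universe u v w

variable {F : Type u} [Field F] [Fintype F] {ι : Type} [Fintype ι] [DecidableEq ι]
  {Q : QuadraticForm F (ι → F)}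

/-- The coprime bound for a normal subgroup isomorphic to `Ω`. -/
theorem coprime_le_of_equiv (hQ : PolarNondeg Q) (hn : 5 ≤ Fintype.card ι) {G : Type u} [Group G] [Finite G]
    {P : Cfsg.BNPair G} {p : ℕ} [Fact p.Prime] {U : Subgroup G} {n₀ : G} (h : SplitLift.Opp P p U n₀)
    (M : Subgroup G) [M.Normal] (hUM : U ≤ M) (e : Cfsg.Omega F ⇑Q ≃* M) (hU : U ≠ ⊥) (b : G → ℕ)
    (hrk : ∀ s ∈ P.S, ∃ (K : Type w) (_ : Field K) (_ : Fintype K) (_ : CharP K p)
      (φ : Matrix.SpecialLinearGroup (Fin 2) K →* G),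
        SplitLift.RankOne K U n₀ s φ ∧ Fintype.card K - 1 ≤ b s ∧ 1 ≤ b s)
    [Fintype P.S] {N : ℕ} (hT : Nat.card ↥(P.B ⊓ P.N) ≤ N * Nat.card ↥((P.B ⊓ P.N) ⊓ M : Subgroup G))
    (E : Type u) [Group E] [Finite E] (σ : E →* Cfsg.Omega F ⇑Q) (hσ : Cfsg.IsStemExtension σ)
    (hco : (Nat.card σ.ker).Coprime p) :
    Nat.card σ.ker * Nat.card ↥(P.B ⊓ P.N) ≤ N * ∏ s : P.S, b s := by
  classical
  have hω : commutator (Cfsg.Omega F ⇑Q) = ⊤ := commutator_omega_eq_top hQ hn
  have hMp : commutator M = ⊤ := by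
    have := congrArg (Subgroup.map e.toMonoidHom) hω
    rwa [commutator_def, Subgroup.map_commutator, Subgroup.map_top_of_surjective _ e.surjective,
      ← commutator_def] at this
  haveI : IsSimpleGroup (M ⧸ Subgroup.center M) := by
    haveI : IsSimpleGroup (Cfsg.POmega F ⇑Q) := isSimpleGroup_POmega _ hQ hn
    have hmap : (Subgroup.center (Cfsg.Omega F ⇑Q)).map e.toMonoidHom = Subgroup.center M :=
      map_center_equiv e
    haveI : Nontrivial (M ⧸ Subgroup.center M) :=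
      (QuotientGroup.congr _ _ e hmap).toEquiv.symm.nontrivial
    exact IsSimpleGroup.isSimpleGroup_of_surjective (QuotientGroup.congr _ _ e hmap).toMonoidHom
      (QuotientGroup.congr _ _ e hmap).surjective
  have hgen : ∀ A : Subgroup M, A.Normal → U.subgroupOf M ≤ A → A = ⊤ := by
    intro A _ hA
    refine SplitLift.eq_top_of_normal hMp A fun hle => hU ?_
    rw [Subgroup.eq_bot_iff_forall]
    intro u hu
    obtain ⟨r₀, -, h'⟩ := SplitLift.exists_opp_normal h M hUM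
    have hz : (⟨u, hUM hu⟩ : M) ∈ Subgroup.center M := hle (hA hu)
    have h1 := h'.opp _ (show (⟨u, hUM hu⟩ : M) ∈ U.subgroupOf M from hu) (by
      rw [mul_assoc, ← Subgroup.mem_center_iff.1 hz r₀, inv_mul_cancel_left]
      exact h'.split.le (show (⟨u, hUM hu⟩ : M) ∈ U.subgroupOf M from hu))
    exact congrArg Subtype.val h1
  let τ : E →* M := e.toMonoidHom.comp σ
  have hτk : τ.ker = σ.ker := by ext x; simp [τ, MonoidHom.mem_ker]
  have hτ : Cfsg.IsStemExtension τ := ⟨e.surjective.comp hσ.1, hτk ▸ hσ.2.1, hτk ▸ hσ.2.2⟩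
  have hb := SplitLift.card_coprime_normal_le h M hUM hMp hgen b hrk E τ hτ (hτk ▸ hco)
  rw [hτk] at hb
  have hT' : Nat.card ↥((P.B ⊓ P.N) ⊓ M : Subgroup G) = Nat.card ↥((P.B ⊓ P.N).subgroupOf M) := by
    rw [← Subgroup.inf_subgroupOf_right]
    exact (Nat.card_congr (Subgroup.subgroupOfEquivOfLe inf_le_right).toEquiv).symm
  rw [hT'] at hT
  calc Nat.card σ.ker * Nat.card ↥(P.B ⊓ P.N)
      ≤ Nat.card σ.ker * (N * Nat.card ↥((P.B ⊓ P.N).subgroupOf M)) := Nat.mul_le_mul le_rfl hT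
    _ = N * (Nat.card σ.ker * Nat.card ↥((P.B ⊓ P.N).subgroupOf M)) := by ring
    _ ≤ _ := Nat.mul_le_mul le_rfl hb

end CfsgLib.Known.OrthCase
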