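import Cfsg.Agent.Lib.Known.OrthSpin.Elements
import Cfsg.Agent.Lib.Known.OrthLift.Transport

/-!
# The cover of `PΩ`
-/

set_option autoImplicit false
set_option linter.unusedSectionVars false

namespace CfsgLib.Known.OrthCase

open Matrix CfsgLib.Classical CfsgLib.Known.OrthLift
open CfsgLib.Known.OrthSpin
open scoped commutatorElement

universe u v

/-- A central extension of a central quotient, from a perfect group. -/
theorem isStem_comp {X G H : Type*} [Group X] [Group G] [Group H] (σ : X →* G)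
    (hσ : Cfsg.IsStemExtension σ) (hX : commutator X = ⊤) (π : G →* H) (hπ : Function.Surjective π)
    (hc : π.ker ≤ Subgroup.center G) : Cfsg.IsStemExtension (π.comp σ) := by
  refine ⟨hπ.comp hσ.1, fun z hz => ?_, fun z _ => hX ▸ Subgroup.mem_top z⟩
  have hk : ∀ x : X, ⁅z, x⁆ ∈ σ.ker := fun x => by
    rw [MonoidHom.mem_ker, map_commutatorElement, commutatorElement_eq_one_iff_mul_comm]
    exact (Subgroup.mem_center_iff.1 (hc hz) (σ x)).symm
  letI : CommGroup σ.ker := { (inferInstance : Group σ.ker) with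
    mul_comm := fun a b => Subtype.ext (Subgroup.mem_center_iff.1 (hσ.2.1 b.2) a) }
  let φ : X →* σ.ker := MonoidHom.mk' (fun x => ⟨⁅z, x⁆, hk x⟩) fun a b => Subtype.ext (by
    show ⁅z, a * b⁆ = ⁅z, a⁆ * ⁅z, b⁆
    rw [show ⁅z, a * b⁆ = ⁅z, a⁆ * (a * ⁅z, b⁆ * a⁻¹) by simp only [commutatorElement_def]; group,
      Subgroup.mem_center_iff.1 (hσ.2.1 (hk b)) a, mul_inv_cancel_right])
  refine Subgroup.mem_center_iff.2 fun x => ?_
  have h1 : φ x = 1 := Abelianization.commutator_subset_ker φ (hX ▸ Subgroup.mem_top x)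
  exact (commutatorElement_eq_one_iff_mul_comm.1 (congrArg Subtype.val h1)).symm

variable {F : Type u} [Field F] [Fintype F] {ι : Type} [Fintype ι] [DecidableEq ι]
  {Q : QuadraticForm F (ι → F)}

/-- The spin extension of `Ω`. -/
noncomputable def omegaCover (hQ : PolarNondeg Q) (hn : 5 ≤ Fintype.card ι) :
    Spin Q →* Cfsg.Omega F ⇑Q :=
  (omegaEquiv hQ hn).symm.toMonoidHom.comp (spinProj hQ (by rwa [Module.finrank_pi]))

theorem omegaCover_stem (hQ : PolarNondeg Q) (hn : 5 ≤ Fintype.card ι) :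
    Cfsg.IsStemExtension (omegaCover hQ hn) := by
  have hn' : 5 ≤ Module.finrank F (ι → F) := by rwa [Module.finrank_pi]
  have h := spinProj_stem hQ hn'
  have hk : (omegaCover hQ hn).ker = (spinProj hQ hn').ker := by
    ext x; simp [omegaCover, MonoidHom.mem_ker]
  exact ⟨(omegaEquiv hQ hn).symm.surjective.comp h.1, hk ▸ h.2.1, hk ▸ h.2.2⟩

theorem spin_perfect (hQ : PolarNondeg Q) (hn : 5 ≤ Fintype.card ι) : commutator (Spin Q) = ⊤ := by
  have hn' : 5 ≤ Module.finrank F (ι → F) := by rwa [Module.finrank_pi]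
  exact perfect_commutator _ (commutator_eich_eq_top hQ hn) (toEich_surjective hQ hn')
    (ker_toEich hQ hn')

theorem mem_ker_omegaCover (hQ : PolarNondeg Q) (hn : 5 ≤ Fintype.card ι) {x : Spin Q} :
    x ∈ (omegaCover hQ hn).ker ↔ aut x = 1 := by
  constructor
  · intro h
    have h1 : spinProj hQ (by rwa [Module.finrank_pi]) x = 1 :=
      (omegaEquiv hQ hn).symm.injective (by rw [map_one]; exact h)
    exact congrArg Subtype.val h1
  · intro h
    show (omegaEquiv hQ hn).symm _ = 1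
    rw [show spinProj hQ (by rwa [Module.finrank_pi]) x = 1 from Subtype.ext h, map_one]

/-- The spin extension of `PΩ`. -/
noncomputable def pomegaCover (hQ : PolarNondeg Q) (hn : 5 ≤ Fintype.card ι) :
    Spin Q →* Cfsg.POmega F ⇑Q :=
  (QuotientGroup.mk' (Subgroup.center (Cfsg.Omega F ⇑Q))).comp (omegaCover hQ hn)

theorem pomegaCover_stem (hQ : PolarNondeg Q) (hn : 5 ≤ Fintype.card ι) :
    Cfsg.IsStemExtension (pomegaCover hQ hn) :=
  isStem_comp _ (omegaCover_stem hQ hn) (spin_perfect hQ hn) _ (QuotientGroup.mk'_surjective _)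
    (by rw [QuotientGroup.ker_mk'])

theorem commutator_pomega_eq_top (hQ : PolarNondeg Q) (hn : 5 ≤ Fintype.card ι) :
    commutator (Cfsg.POmega F ⇑Q) = ⊤ := by
  have := congrArg (Subgroup.map (QuotientGroup.mk' (Subgroup.center (Cfsg.Omega F ⇑Q))))
    (commutator_omega_eq_top hQ hn)
  rwa [commutator_def, Subgroup.map_commutator,
    Subgroup.map_top_of_surjective _ (QuotientGroup.mk'_surjective _), ← commutator_def] at this

/-- The sign in the kernel. -/
theorem exists_ker_sign (hQ : PolarNondeg Q) (hn : 5 ≤ Fintype.card ι) (h2 : (2 : F) ≠ 0)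
    {e f g : ι → F} {a : F} (h : Trio Q e f g a) :
    ∃ m : Spin Q, cl m = -1 ∧ aut m = 1 ∧ m ∈ (omegaCover hQ hn).ker ∧ orderOf m = 2 := by
  have hn' : 5 ≤ Module.finrank F (ι → F) := by rwa [Module.finrank_pi]
  obtain ⟨m, hm, hma⟩ := exists_neg_one hQ hn' h2 h
  refine ⟨m, hm, hma, (mem_ker_omegaCover hQ hn).2 hma, orderOf_eq_prime ?_ fun e => ?_⟩
  · exact spin_ext (by rw [sq, cl_mul, hm, cl_one, neg_mul_neg, one_mul])
      (by rw [sq, aut_mul, hma, aut_one, one_mul])
  · rw [e, cl_one] at hm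
    exact neg_one_ne_one hQ hn' h2 hm.symm

/-- A lift of `-1` in the kernel over `PΩ`. -/
theorem exists_ker_neg (hQ : PolarNondeg Q) (hn : 5 ≤ Fintype.card ι) (h2 : (2 : F) ≠ 0)
    {l : ℕ} (e f g : Fin l → ι → F) (a : Fin l → F) (h : ∀ i, Trio Q (e i) (f i) (g i) (a i))
    (horth : ∀ i j, i ≠ j → QuadraticMap.polar Q (e i) (e j) = 0 ∧
      QuadraticMap.polar Q (e i) (f j) = 0 ∧ QuadraticMap.polar Q (f i) (f j) = 0)
    (hspan : Submodule.span F (Set.range e ∪ Set.range f) = ⊤) {m : Spin Q} (hm : cl m = -1)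
    (hma : aut m = 1) :
    ∃ z : Spin Q, z * z = m ^ l ∧ z ∈ (pomegaCover hQ hn).ker ∧ z ∉ (omegaCover hQ hn).ker := by
  have hn' : 5 ≤ Module.finrank F (ι → F) := by rwa [Module.finrank_pi]
  obtain ⟨z, hz, hzv⟩ := exists_lift_neg hQ hn' h2 e f g a h horth hspan hm hma
  refine ⟨z, hz, ?_, fun hk => ?_⟩
  · show QuotientGroup.mk' _ (omegaCover hQ hn z) = 1
    rw [QuotientGroup.mk'_apply, QuotientGroup.eq_one_iff]
    refine Subgroup.mem_center_iff.2 fun y => (omegaEquiv hQ hn).injective ?_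
    rw [map_mul, map_mul, show omegaEquiv hQ hn (omegaCover hQ hn z) = spinProj hQ hn' z from
      (omegaEquiv hQ hn).apply_symm_apply _]
    refine Subtype.ext (qAut_ext fun v => ?_)
    show (omegaEquiv hQ hn y).1.1 ((aut z).1 v) = (aut z).1 ((omegaEquiv hQ hn y).1.1 v)
    rw [hzv, hzv, map_neg]
  · haveI : Nonempty ι := Fintype.card_pos_iff.1 (by omega)
    obtain ⟨i⟩ := (inferInstance : Nonempty ι)
    have h1 := hzv (Pi.single i 1)
    rw [(mem_ker_omegaCover hQ hn).1 hk] at h1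
    have h3 := congrFun h1 i
    simp at h3
    exact h2 (by linear_combination h3)

end CfsgLib.Known.OrthCase
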