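import Cfsg.Agent.Lib.Known.OrthCase.Common
import Cfsg.Agent.Lib.Known.SplitLift.PlusNodes
import Cfsg.Agent.Lib.TwistBN.PlusInst

/-!
# The bound on the multiplier of the hyperbolic orthogonal groups
-/

set_option autoImplicit false
set_option linter.unusedSectionVars false
set_option linter.unusedSimpArgs false

namespace CfsgLib.Known.OrthCase

open Matrix CfsgLib.Classical CfsgLib.TwistBN CfsgLib.PronormalPSL CfsgLib.PronormalPSU
open CfsgLib.Fusion.UniTri CfsgLib.Known.OrthLift CfsgLib.OrthMinIndex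

universe u

variable {F : Type u} [Field F] [Fintype F]

theorem quadPlus_polar (m : ℕ) (v w : Fin m ⊕ Fin m → F) : QuadraticMap.polar (qPlus m F) v w =
    ∑ i : Fin m, (v (.inl i) * w (.inr i) + w (.inl i) * v (.inr i)) := by
  rw [QuadraticMap.polar, coe_qPlus]
  simp only [Cfsg.quadFormPlus, Pi.add_apply, ← Finset.sum_sub_distrib]
  exact Finset.sum_congr rfl fun i _ => by ring

/-- The standard pairs. -/
noncomputable def plusFrame (m : ℕ) : Frame (qPlus m F) m where
  e i := Pi.single (.inl i) 1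
  f i := Pi.single (.inr i) 1
  pair i := by
    constructor
    · simp [coe_qPlus, Cfsg.quadFormPlus, Pi.single_apply]
    · simp [coe_qPlus, Cfsg.quadFormPlus, Pi.single_apply]
    · simp [quadPlus_polar, Pi.single_apply]
  ee i j h := by simp [quadPlus_polar, Pi.single_apply]
  ef i j h := by simp [quadPlus_polar, Pi.single_apply, h, Ne.symm h]
  ff i j h := by simp [quadPlus_polar, Pi.single_apply]

theorem card_torus_plus (m : ℕ) :
    (Fintype.card F - 1) ^ m ≤
      Nat.card ↥((TwistBN.Plus.bnPair F m).B ⊓ (TwistBN.Plus.bnPair F m).N) := by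
  classical
  let c : (Fin m → Fˣ) → Fin (2 * m) → Fˣ := fun v i =>
    if h : i.val < m then v ⟨i.val, h⟩ else (v ⟨2 * m - 1 - i.val, by omega⟩)⁻¹
  have hc : ∀ v i, c v i * c v (Fin.rev i) = 1 := fun v i => by
    have := i.isLt
    have e : (Fin.rev i).val = 2 * m - 1 - i.val := by rw [Fin.val_rev]; omega
    simp only [c, e]
    split_ifs <;> first | omega | simp | (have e2 : 2 * m - 1 - (2 * m - 1 - i.val) = i.val := by omega
                                          simp [e2])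
  have hmem : ∀ v, dg (c v) ∈ TwistBN.Plus.BO F m := fun v => by
    refine TwistBN.Plus.diag_BO (mono_dg _) (TwistBN.Plus.mono_mem (mono_dg _) ((th_eq_iff _ _ _).2 ?_))
    rw [RingEquiv.coe_refl, Matrix.map_id, dg_val, Matrix.diagonal_transpose]
    refine Matrix.ext fun i j => ?_
    rw [Matrix.mul_diagonal, Matrix.diagonal_mul]
    simp only [TwistBN.gram, Matrix.of_apply, Pi.one_apply, Units.val_one]
    split_ifs with h
    · subst h; rw [mul_one, ← Units.val_mul, hc, Units.val_one]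
    · rw [mul_zero, zero_mul]
  let f : (Fin m → Fˣ) → ↥((TwistBN.Plus.bnPair F m).B ⊓ (TwistBN.Plus.bnPair F m).N) := fun v =>
    ⟨⟨dg (c v), TwistBN.Plus.BO_le_GP (hmem v)⟩, hmem v, 1, mono_dg _⟩
  have hf : Function.Injective f := fun v w e => funext fun i => by
    have := congrArg (fun x : ↥((TwistBN.Plus.bnPair F m).B ⊓ (TwistBN.Plus.bnPair F m).N) =>
      ((x.1 : TwistBN.Plus.GP F m) : GL (Fin (2 * m)) F).1 ⟨i.val, by omega⟩ ⟨i.val, by omega⟩) e
    simpa [f, dg_val, c, i.isLt, Units.val_inj] using this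
  refine le_of_eq_of_le ?_ (Nat.card_le_card_of_injective f hf)
  rw [Nat.card_pi, Finset.prod_const, Finset.card_univ, Fintype.card_fin, Nat.card_eq_fintype_card,
    Fintype.card_units]

theorem not_dvd_pow_pred {p q k : ℕ} (hp : p.Prime) (hpq : p ∣ q) (hq : 1 ≤ q) (hk : k ≠ 0) :
    ¬ p ∣ q ^ k - 1 := fun h => by
  have h2 := Nat.dvd_sub (hpq.trans (dvd_pow_self q hk)) h
  rw [Nat.sub_sub_self (Nat.one_le_pow _ _ hq)] at h2
  exact hp.ne_one (Nat.dvd_one.1 h2)

/-- Stem extensions of `Ω⁺` have kernels of order at most `gcd(2, q - 1)`. -/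
theorem omega_plus_stem_le (l : ℕ) (hl : 4 ≤ l) (hexc : ¬ (l = 4 ∧ Fintype.card F = 2))
    (E : Type u) [Group E] [Finite E] (σ : E →* Cfsg.Omega F ⇑(qPlus l F))
    (hσ : Cfsg.IsStemExtension σ) :
    Nat.card σ.ker ≤ 2 ∧ ((2 : F) = 0 → Nat.card σ.ker ≤ 1) := by
  classical
  obtain ⟨p, hchar⟩ := CharP.exists F
  obtain ⟨a, hp, ha⟩ := FiniteField.card F p
  haveI : Fact p.Prime := ⟨hp⟩
  have hQ : PolarNondeg (qPlus l F) := polarNondeg_qPlus l
  have hι : Fintype.card (Fin l ⊕ Fin l) = 2 * l := by simp; omega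
  have hfr : Module.finrank F (Fin l ⊕ Fin l → F) = 2 * l := by rw [Module.finrank_pi, hι]
  have hpq : p ∣ Fintype.card F := ha ▸ dvd_pow_self p a.ne_zero
  have hq1 : 1 ≤ Fintype.card F := Fintype.card_pos
  have hpc : ∀ (E' : Type u) [Group E'] [Finite E'] (σ' : E' →* Cfsg.Omega F ⇑(qPlus l F)),
      Cfsg.IsStemExtension σ' → IsPGroup p σ'.ker → ∀ z ∈ σ'.ker, z = 1 := by
    intro E' _ _ σ' hσ' hk
    obtain ⟨k, rfl⟩ : ∃ k, l = k + 1 := ⟨l - 1, by omega⟩
    set A := (Fintype.card F ^ (k + 1) - 1) *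
      ∏ i ∈ Finset.range k, (Fintype.card F ^ (2 * (i + 1)) - 1) with hA
    have hpA : ¬ p ∣ A := fun h => by
      rcases (Nat.Prime.dvd_mul hp).1 h with h | h
      · exact not_dvd_pow_pred hp hpq hq1 (by omega) h
      · exact not_dvd_of_mul_pred hp hpq hq1 _ h
    have h1 := card_eich_mul_index hQ (by omega)
    have hn8 : ∀ (_ : Fintype F), Fintype.card F = 2 → Module.finrank F (Fin (k + 1) ⊕ Fin (k + 1) → F) = 8 →
        False := fun inst h2 h8 => hexc ⟨by omega, by convert h2⟩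
    rw [card_qAut_qPlus, card_qAut_plus] at h1
    by_cases h2 : (2 : F) = 0
    · have hidx : (commutator (qAut (qPlus (k + 1) F))).index = 2 := by
        haveI : CharP F 2 := CharTwo.of_one_ne_zero_of_two_eq_zero one_ne_zero h2
        exact index_commutator_two _ hQ (by omega) (Or.inr (by omega))
      rw [hidx] at h1
      refine omega_stem_pgroup hQ (by omega) hp (fun _ => by omega) (fun h h8 => (hn8 _ h h8).elim)
        (plusFrame (k + 1)) (c := A) ?_ hpA E' σ' hσ' hk
      rw [hι, show 2 * (k + 1) - (k + 1) - 1 = k by omega]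
      simp only [hA]
      nlinarith [h1]
    · rw [index_commutator_odd _ h2 hQ (by omega)] at h1
      have hev : 2 ∣ A := Dvd.dvd.mul_right ((Nat.Odd.sub_odd
        (odd_card_of_two_ne_zero h2).pow odd_one).two_dvd) _
      refine omega_stem_pgroup hQ (by omega) hp (fun _ => by omega) (fun h h8 => (hn8 _ h h8).elim)
        (plusFrame (k + 1)) (c := A / 2) ?_ (fun h => hpA (h.trans (Nat.div_dvd_of_dvd hev))) E' σ' hσ' hk
      obtain ⟨r, hr⟩ := hev
      rw [hr, Nat.mul_div_cancel_left r (by norm_num), hι, show 2 * (k + 1) - (k + 1) - 1 = k by omega]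
      rw [mul_assoc (2 * _), ← hA, hr] at h1
      nlinarith [h1]
  obtain ⟨n₀, hl₀⟩ := SplitLift.Plus.exists_long (F := F) (m := l) (p := p)
  have hU : (uni F (2 * l)).subgroupOf (TwistBN.Plus.GP F l) ≠ ⊥ := by
    obtain ⟨u, hu, hfix, hbd, hne⟩ := node_short (d := (1 : Fin (2 * l) → Fˣ)) (σ := RingEquiv.refl F)
      (k := 0) (fun _ => by simp) (fun _ _ _ _ => by simp) (show 2 * 0 + 4 ≤ 2 * l by omega)
    have huo : u ∈ TwistBN.Plus.oGL F l := TwistBN.Plus.bd_mem (by omega) hbd (mem_fixS.1 hfix).1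
    intro h
    have hm : (⟨u, TwistBN.Plus.BO_le_GP (TwistBN.Plus.uni_BO ⟨hu, huo⟩)⟩ : TwistBN.Plus.GP F l) ∈
        (uni F (2 * l)).subgroupOf (TwistBN.Plus.GP F l) := hu
    rw [h, Subgroup.mem_bot] at hm
    exact hne (congrArg Subtype.val hm)
  haveI : Fintype (TwistBN.Plus.bnPair F l).S := Fintype.ofFinite _
  have hone : 1 ≤ Fintype.card F - 1 := by have := Fintype.one_lt_card (α := F); omega
  have hrk : ∀ s ∈ (TwistBN.Plus.bnPair F l).S, ∃ (K : Type u) (_ : Field K) (_ : Fintype K) (_ : CharP K p)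
      (φ : Matrix.SpecialLinearGroup (Fin 2) K →* TwistBN.Plus.GP F l),
      SplitLift.RankOne K ((uni F (2 * l)).subgroupOf (TwistBN.Plus.GP F l)) n₀ s φ ∧
        Fintype.card K - 1 ≤ Fintype.card F - 1 ∧ 1 ≤ Fintype.card F - 1 := fun s hs => by
    obtain ⟨φ, hφ⟩ := SplitLift.Plus.exists_rankOne hl₀ hs
    exact ⟨F, inferInstance, inferInstance, inferInstance, φ, hφ, le_rfl, hone⟩
  have hS : Fintype.card (TwistBN.Plus.bnPair F l).S ≤ l := by
    refine le_trans (le_of_eq_of_le Nat.card_eq_fintype_card.symm ?_) (le_of_eq (Nat.card_fin l))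
    refine le_trans (Finite.card_range_le _) ?_
    exact Nat.card_le_card_of_injective (fun i : TwistBN.Plus.Idx l => i.1) Subtype.val_injective
  have hfin : ∀ (M : Subgroup (TwistBN.Plus.GP F l)) [M.Normal]
      (_ : (uni F (2 * l)).subgroupOf (TwistBN.Plus.GP F l) ≤ M)
      (_ : Cfsg.Omega F ⇑(qPlus l F) ≃* M) (N : ℕ),
      Nat.card ↥((TwistBN.Plus.bnPair F l).B ⊓ (TwistBN.Plus.bnPair F l).N) ≤ N * Nat.card
        ↥(((TwistBN.Plus.bnPair F l).B ⊓ (TwistBN.Plus.bnPair F l).N) ⊓ M : Subgroup _) →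
      ∀ (E' : Type u) [Group E'] [Finite E'] (σ' : E' →* Cfsg.Omega F ⇑(qPlus l F)),
        Cfsg.IsStemExtension σ' → Nat.card σ'.ker ≤ N := by
    intro M _ hUM e N hT E' _ _ σ' hσ'
    refine SplitLift.stem_card_le p hpc (fun E'' _ _ σ'' hσ'' hco => ?_) E' σ' hσ'
    have h := coprime_le_of_equiv hQ (by omega) hl₀.opp M hUM e hU (fun _ => Fintype.card F - 1) hrk hT
      E'' σ'' hσ'' hco
    rw [Finset.prod_const, Finset.card_univ] at h
    refine Nat.le_of_mul_le_mul_right ?_ (pow_pos hone l)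
    calc Nat.card σ''.ker * (Fintype.card F - 1) ^ l
        ≤ Nat.card σ''.ker * Nat.card ↥((TwistBN.Plus.bnPair F l).B ⊓ (TwistBN.Plus.bnPair F l).N) :=
          Nat.mul_le_mul le_rfl (card_torus_plus l)
      _ ≤ _ := h
      _ ≤ _ := Nat.mul_le_mul le_rfl (Nat.pow_le_pow_right hone hS)
  have hequiv := TwistBN.Plus.omega_plus_equiv (F := F) p l (by omega) (by omega)
  rw [← coe_qPlus] at hequiv
  by_cases h2 : (2 : F) = 0
  · rcases hequiv with ⟨⟨e⟩⟩ | ⟨hp2, -⟩
    · have h := hfin ⊤ le_top (e.trans Subgroup.topEquiv.symm) 1 (by rw [inf_top_eq, one_mul]) E σ hσ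
      exact ⟨h.trans (by norm_num), fun _ => h⟩
    · exact absurd ((Nat.prime_dvd_prime_iff_eq hp Nat.prime_two).1
        ((CharP.cast_eq_zero_iff F p 2).1 (by exact_mod_cast h2))) hp2
  · refine ⟨?_, fun h => absurd h h2⟩
    rcases hequiv with ⟨⟨e⟩⟩ | ⟨hp2, M, hM, ⟨e⟩⟩
    · have h := hfin ⊤ le_top (e.trans Subgroup.topEquiv.symm) 1 (by rw [inf_top_eq, one_mul]) E σ hσ
      exact h.trans (by norm_num)
    · haveI : M.Normal := Subgroup.normal_of_index_eq_two hM
      exact hfin M ((TwistBN.Plus.split p).le_of_index_two hp2 M hM) e 2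
        (SplitLift.card_torus_index_two M hM _) E σ hσ

end CfsgLib.Known.OrthCase
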