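import Cfsg.Agent.Lib.Known.OrthCase.Common
import Cfsg.Agent.Lib.Known.OrthCase.Plus
import Cfsg.Agent.Lib.Known.SplitLift.MinusNodes
import Cfsg.Agent.Lib.TwistBN.MinusInst
import Mathlib.FieldTheory.Finite.GaloisField
import Mathlib.FieldTheory.Galois.Basic

/-!
# The bound on the multiplier of the elliptic orthogonal groups
-/

set_option autoImplicit false
set_option linter.unusedSectionVars false
set_option linter.unusedSimpArgs false
set_option maxHeartbeats 1000000

namespace CfsgLib.Known.OrthCase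

open Matrix CfsgLib.Classical CfsgLib.TwistBN CfsgLib.PronormalPSL CfsgLib.PronormalPSU
open CfsgLib.Fusion.UniTri CfsgLib.Known.OrthLift CfsgLib.OrthMinIndex

universe u

variable {F : Type u} [Field F] [Fintype F]

theorem quadMinus_polar (m : ℕ) (a b : F) (v w : (Fin m ⊕ Fin m) ⊕ Fin 2 → F) :
    QuadraticMap.polar (qExt m (qBin a b)) v w =
      (∑ i : Fin m, (v (.inl (.inl i)) * w (.inl (.inr i)) + w (.inl (.inl i)) * v (.inl (.inr i)))) +
      (2 * v (.inr 0) * w (.inr 0) + a * (v (.inr 0) * w (.inr 1) + w (.inr 0) * v (.inr 1)) +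
        2 * b * v (.inr 1) * w (.inr 1)) := by
  rw [QuadraticMap.polar, coe_qExt_qBin]
  simp only [Cfsg.quadFormMinus, Pi.add_apply]
  have : ∀ i : Fin m, (v (.inl (.inl i)) + w (.inl (.inl i))) * (v (.inl (.inr i)) + w (.inl (.inr i))) =
      v (.inl (.inl i)) * v (.inl (.inr i)) + w (.inl (.inl i)) * w (.inl (.inr i)) +
        (v (.inl (.inl i)) * w (.inl (.inr i)) + w (.inl (.inl i)) * v (.inl (.inr i))) := fun i => by ring
  simp only [this, Finset.sum_add_distrib]
  ring

/-- The standard pairs. -/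
noncomputable def minusFrame (m : ℕ) (a b : F) : Frame (qExt m (qBin a b)) m where
  e i := Pi.single (.inl (.inl i)) 1
  f i := Pi.single (.inl (.inr i)) 1
  pair i := by
    constructor
    · simp [coe_qExt_qBin, Cfsg.quadFormMinus, Pi.single_apply]
    · simp [coe_qExt_qBin, Cfsg.quadFormMinus, Pi.single_apply]
    · simp [quadMinus_polar, Pi.single_apply]
  ee i j h := by simp [quadMinus_polar, Pi.single_apply]
  ef i j h := by simp [quadMinus_polar, Pi.single_apply, h, Ne.symm h]
  ff i j h := by simp [quadMinus_polar, Pi.single_apply]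

/-- No totally singular subspace of dimension four in dimension eight. -/
theorem noFour_minus {a b : F} (hab : BinAniso a b) (m : ℕ) (hm : m ≤ 3) :
    NoFour (qExt m (qBin a b)) := by
  refine noFour_of_witt fun u v w x hli hQ => ?_
  set W : Fin 4 → ((Fin m ⊕ Fin m) ⊕ Fin 2 → F) := ![u, v, w, x]
  let L : (Fin 4 → F) →ₗ[F] ((Fin m ⊕ Fin m) ⊕ Fin 2 → F) := Fintype.linearCombination F W
  have hL : Function.Injective L := linearIndependent_iff_injective_fintypeLinearCombination.1 hli
  have hQ' : ∀ c, qExt m (qBin a b) (L c) = 0 := fun c => by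
    rw [Fintype.linearCombination_apply]; exact hQ c
  let Y : (Fin 4 → F) →ₗ[F] (Fin m → F) := (LinearMap.funLeft F F (fun i => Sum.inl (Sum.inr i))).comp L
  let X : (Fin 4 → F) →ₗ[F] (Fin m → F) := (LinearMap.funLeft F F (fun i => Sum.inl (Sum.inl i))).comp L
  have hker : ∀ c, Y c = 0 → X c = 0 → c = 0 := by
    intro c hy hx
    refine hL ((map_zero L).symm ▸ funext fun i => ?_)
    have h0 := hQ' c
    have hy' : ∀ i, L c (.inl (.inr i)) = 0 := fun i => congrFun hy i
    have hx' : ∀ i, L c (.inl (.inl i)) = 0 := fun i => congrFun hx i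
    rw [coe_qExt_qBin, Cfsg.quadFormMinus, Finset.sum_eq_zero (fun i _ => by rw [hy', mul_zero]), zero_add] at h0
    obtain ⟨z0, z1⟩ := hab _ _ h0
    rcases i with (i | i) | i
    · simpa using hx' i
    · simpa using hy' i
    · fin_cases i
      · simpa using z0
      · simpa using z1
  -- the kernel of the second projection pairs to zero with the image
  let Kx : Submodule F (Fin m → F) := (LinearMap.ker Y).map X
  let dot : (Fin m → F) →ₗ[F] Module.Dual F (Fin m → F) :=
    LinearMap.mk₂ F (fun p q => ∑ i, p i * q i) (fun p p' q => by simp [add_mul, Finset.sum_add_distrib])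
      (fun c p q => by simp [Finset.mul_sum, mul_assoc]) (fun p q q' => by simp [mul_add, Finset.sum_add_distrib])
      (fun c p q => by simp [Finset.mul_sum]; exact Finset.sum_congr rfl fun i _ => by ring)
  have hann : LinearMap.range (dot.comp Y) ≤ Kx.dualAnnihilator := by
    rintro _ ⟨c, rfl⟩
    rw [Submodule.mem_dualAnnihilator]
    rintro _ ⟨d, hd, rfl⟩
    have e1 := hQ' (c + d)
    rw [map_add, quad_add, hQ', hQ', zero_add, zero_add, quadMinus_polar] at e1
    have hy : ∀ i, L d (.inl (.inr i)) = 0 := fun i => congrFun hd i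
    have hdQ := hQ' d
    rw [coe_qExt_qBin, Cfsg.quadFormMinus, Finset.sum_eq_zero (fun i _ => by rw [hy, mul_zero]), zero_add] at hdQ
    obtain ⟨z0, z1⟩ := hab _ _ hdQ
    simp only [hy, z0, z1, mul_zero, zero_mul, add_zero, zero_add] at e1
    show ∑ i, Y c i * X d i = 0
    rw [← e1]
    exact Finset.sum_congr rfl fun i _ => mul_comm _ _
  have hdot : Function.Injective dot := fun p q h => funext fun i => by
    have := LinearMap.congr_fun h (Pi.single i 1)
    simpa [dot, Pi.single_apply] using this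
  have h1 : Module.finrank F (LinearMap.range Y) ≤ Module.finrank F Kx.dualAnnihilator := by
    refine le_of_eq_of_le ?_ (Submodule.finrank_mono hann)
    exact (Submodule.equivMapOfInjective dot hdot (LinearMap.range Y)).finrank_eq.trans
      (congrArg (fun S : Submodule F _ => Module.finrank F S) (LinearMap.range_comp Y dot).symm)
  have h2 : Module.finrank F (LinearMap.ker Y) = Module.finrank F Kx := by
    refine LinearEquiv.finrank_eq (LinearEquiv.ofBijective (X.submoduleMap (LinearMap.ker Y))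
      ⟨(injective_iff_map_eq_zero _).2 fun c hc => Subtype.ext (hker c.1 c.2 (congrArg Subtype.val hc)),
        LinearMap.submoduleMap_surjective X _⟩)
  have h3 := Subspace.finrank_add_finrank_dualAnnihilator_eq Kx
  have h4 := LinearMap.finrank_range_add_finrank_ker Y
  simp [Module.finrank_pi] at h3 h4
  omega

theorem pP_inj {K : Type*} [Field K] {n : ℕ} {π π' : Equiv.Perm (Fin n)}
    (h : CfsgLib.GLUnipotent.permGL n K π = CfsgLib.GLUnipotent.permGL n K π') : π = π' := by
  refine Equiv.ext fun j => ?_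
  have e := congrArg (fun g : GL (Fin n) K => g.1 (π j) j) h
  simp only [CfsgLib.GLUnipotent.permGL_apply, if_true] at e
  by_contra hne
  rw [if_neg hne] at e
  exact one_ne_zero e

theorem sigma_sigma {K : Type u} [Field K] [Fintype K] [Algebra F K] (hcard : Fintype.card K = Fintype.card F ^ 2)
    (σ : K ≃+* K) (hfix : ∀ x, σ x = x ↔ ∃ y, algebraMap F K y = x) (x : K) : σ (σ x) = x := by
  haveI : Module.Finite F K := Module.Finite.of_finite
  let τ : K ≃ₐ[F] K := AlgEquiv.ofRingEquiv (f := σ) fun y => (hfix _).2 ⟨y, rfl⟩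
  have hfr : Module.finrank F K = 2 := by
    have h := Module.card_eq_pow_finrank (K := F) (V := K)
    rw [hcard] at h
    exact (Nat.pow_right_injective Fintype.one_lt_card h).symm
  have h1 : τ ^ 2 = 1 := by
    rw [← hfr, ← IsGalois.card_aut_eq_finrank]
    exact pow_card_eq_one'
  exact AlgEquiv.congr_fun h1 x

theorem card_torus_minus {K : Type u} [Field K] [Fintype K] [Algebra F K] (hcard : Fintype.card K = Fintype.card F ^ 2)
    (σ : K ≃+* K) (hfix : ∀ x, σ x = x ↔ ∃ y, algebraMap F K y = x) (m : ℕ) :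
    (Fintype.card F - 1) ^ m * (Fintype.card F + 1) ≤
      Nat.card ↥((TwistBN.Minus.bnPair (m + 1) σ).B ⊓ (TwistBN.Minus.bnPair (m + 1) σ).N) := by
  classical
  set n := 2 * (m + 1)
  let ι₀ : Fˣ →* Kˣ := Units.map (algebraMap F K : F →* K)
  let σu : Kˣ →* Kˣ := Units.map (σ : K →* K)
  let nm : Kˣ →* Kˣ := MonoidHom.mk' (fun z => z * σu z) fun x y => by rw [map_mul, mul_mul_mul_comm]
  have hrange : nm.range ≤ ι₀.range := by
    rintro _ ⟨z, rfl⟩
    obtain ⟨y, hy⟩ := (hfix ((z : K) * σ z)).1 (by rw [map_mul, sigma_sigma hcard σ hfix, mul_comm])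
    have hy0 : y ≠ 0 := fun h => (mul_ne_zero z.ne_zero ((map_ne_zero σ).2 z.ne_zero)) (by rw [← hy, h, map_zero])
    exact ⟨Units.mk0 y hy0, Units.ext hy⟩
  have hker : Fintype.card F + 1 ≤ Nat.card nm.ker := by
    have h1 : Nat.card nm.range ≤ Fintype.card F - 1 := by
      refine (Subgroup.card_le_of_le hrange).trans ((Finite.card_range_le _).trans (le_of_eq ?_))
      rw [Nat.card_eq_fintype_card, Fintype.card_units]
    have h2 : Nat.card Kˣ = Fintype.card F ^ 2 - 1 := by
      rw [Nat.card_eq_fintype_card, Fintype.card_units, hcard]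
    have h3 := nm.ker.card_mul_index
    rw [Subgroup.index_ker, h2] at h3
    have hq := Fintype.one_lt_card (α := F)
    have h4 : Fintype.card F ^ 2 - 1 = (Fintype.card F + 1) * (Fintype.card F - 1) := by
      have := Nat.sq_sub_sq (Fintype.card F) 1
      simpa using this
    rw [h4] at h3
    refine Nat.le_of_mul_le_mul_right (le_of_eq_of_le h3.symm (Nat.mul_le_mul le_rfl h1)) (by omega)
  let c : (Fin m → Fˣ) × nm.ker → Fin n → Kˣ := fun v i =>
    if h : i.val < m then ι₀ (v.1 ⟨i.val, h⟩) else if h' : i.val = m then v.2.1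
      else if h'' : i.val = m + 1 then (v.2.1)⁻¹ else (ι₀ (v.1 ⟨n - 1 - i.val, by omega⟩))⁻¹
  have hc : ∀ v i, c v i * c v (Fin.rev i) = 1 := fun v i => by
    have := i.isLt
    have e : (Fin.rev i).val = n - 1 - i.val := by rw [Fin.val_rev]; omega
    simp only [c, e]
    split_ifs <;> first | omega | simp | (have e2 : n - 1 - (n - 1 - i.val) = i.val := by omega
                                          simp [e2])
  have hσ : ∀ v i, σ (c v (Plus.rho (m + 1) i) : K) = (c v i : K) := fun v i => by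
    have hr := Plus.rho_val i
    have := i.isLt
    have hz : σ (v.2.1 : K) = ((v.2.1)⁻¹ : Kˣ) := by
      have h : v.2.1 * σu v.2.1 = 1 := v.2.2
      exact congrArg Units.val (eq_inv_of_mul_eq_one_right h)
    have hz' : σ (((v.2.1)⁻¹ : Kˣ) : K) = (v.2.1 : K) := by
      rw [← hz, sigma_sigma hcard σ hfix]
    have hfx : ∀ y : Fˣ, σ ((ι₀ y : Kˣ) : K) = (ι₀ y : K) := fun y => (hfix _).2 ⟨(y : F), rfl⟩
    have hfx' : ∀ y : Fˣ, σ (((ι₀ y)⁻¹ : Kˣ) : K) = (((ι₀ y)⁻¹ : Kˣ) : K) := fun y => by
      rw [← map_inv]; exact hfx _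
    by_cases h1 : i.val = m
    · rw [if_pos (show i.val = m + 1 - 1 by omega)] at hr
      simp only [c, hr]
      split_ifs <;> first | omega | exact hz' | exact hz
    by_cases h2 : i.val = m + 1
    · rw [if_neg (show ¬ i.val = m + 1 - 1 by omega), if_pos h2] at hr
      simp only [c, hr]
      split_ifs <;> first | omega | exact hz | exact hz'
    · rw [if_neg (show ¬ i.val = m + 1 - 1 by omega), if_neg h2] at hr
      simp only [c, hr]
      split_ifs
      · exact hfx _
      · exact hfx' _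
  have hmem : ∀ v, dg (c v) ∈ TwistBN.Minus.BM (m + 1) σ := fun v => by
    refine TwistBN.Minus.diag_BM (mono_dg _) (TwistBN.Plus.mono_mem (mono_dg _) ((th_eq_iff _ _ _).2 ?_)) ?_
    · rw [RingEquiv.coe_refl, Matrix.map_id, dg_val, Matrix.diagonal_transpose]
      refine Matrix.ext fun i j => ?_
      rw [Matrix.mul_diagonal, Matrix.diagonal_mul]
      simp only [TwistBN.gram, Matrix.of_apply, Pi.one_apply, Units.val_one]
      split_ifs with h
      · subst h; rw [mul_one, ← Units.val_mul, hc, Units.val_one]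
      · rw [mul_zero, zero_mul]
    · rw [TwistBN.Minus.mem_fixP]
      refine Units.ext (Matrix.ext fun i j => ?_)
      rw [TwistBN.Minus.psi_apply, dg_val]
      by_cases h : i = j
      · subst h; rw [diagonal_apply_eq, diagonal_apply_eq]; exact hσ v i
      · rw [diagonal_apply_ne _ ((Plus.rho (m + 1)).injective.ne h), diagonal_apply_ne _ h, map_zero]
  let f : (Fin m → Fˣ) × nm.ker →
      ↥((TwistBN.Minus.bnPair (m + 1) σ).B ⊓ (TwistBN.Minus.bnPair (m + 1) σ).N) := fun v =>
    ⟨⟨dg (c v), TwistBN.Minus.BM_le_GM (hmem v)⟩, hmem v, 1, mono_dg _⟩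
  have hf : Function.Injective f := fun v w e => by
    have hd : ∀ i, c v i = c w i := fun i => Units.ext (by
      have := congrArg (fun x : ↥((TwistBN.Minus.bnPair (m + 1) σ).B ⊓ (TwistBN.Minus.bnPair (m + 1) σ).N) =>
        ((x.1 : TwistBN.Minus.GM (m + 1) σ) : GL (Fin (2 * (m + 1))) K).1 i i) e
      simpa [f, dg_val] using this)
    refine Prod.ext (funext fun i => Units.ext ((algebraMap F K).injective ?_)) (Subtype.ext ?_)
    · have := congrArg Units.val (hd ⟨i.val, by omega⟩)
      simp only [c, dif_pos i.isLt] at this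
      exact this
    · have := hd ⟨m, by omega⟩
      simpa [c] using this
  refine le_trans ?_ (Nat.card_le_card_of_injective f hf)
  rw [Nat.card_prod, Nat.card_pi, Finset.prod_const, Finset.card_univ, Fintype.card_fin,
    Nat.card_eq_fintype_card (α := Fˣ), Fintype.card_units]
  exact Nat.mul_le_mul le_rfl hker

/-- Stem extensions of `Ω⁻` have kernels of order at most `gcd(2, q - 1)`. -/
theorem omega_minus_stem_le {a b : F} (hab : BinAniso a b) (m : ℕ) (hm : 3 ≤ m)
    (E : Type u) [Group E] [Finite E] (σ' : E →* Cfsg.Omega F ⇑(qExt m (qBin a b)))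
    (hσ' : Cfsg.IsStemExtension σ') :
    Nat.card σ'.ker ≤ 2 ∧ ((2 : F) = 0 → Nat.card σ'.ker ≤ 1) := by
  classical
  obtain ⟨p, hchar⟩ := CharP.exists F
  obtain ⟨e₀, hp, ha⟩ := FiniteField.card F p
  haveI : Fact p.Prime := ⟨hp⟩
  obtain ⟨K, _, _, _, hcard, σ, α, β, hfix, hsum, hprod, hne, hσα, hσβ⟩ :=
    TwistBN.Minus.exists_quadratic_extension hab
  haveI : CharP K p := charP_of_injective_algebraMap (algebraMap F K).injective p
  have hσσ := sigma_sigma hcard σ hfix
  have hQ : PolarNondeg (qExt m (qBin a b)) := polarNondeg_qExt (polarNondeg_qBin hab) m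
  have hι : Fintype.card ((Fin m ⊕ Fin m) ⊕ Fin 2) = 2 * m + 2 := by simp; omega
  have hfr : Module.finrank F ((Fin m ⊕ Fin m) ⊕ Fin 2 → F) = 2 * m + 2 := by rw [Module.finrank_pi, hι]
  have hpq : p ∣ Fintype.card F := ha ▸ dvd_pow_self p e₀.ne_zero
  have hq1 : 1 ≤ Fintype.card F := Fintype.card_pos
  have hpc : ∀ (E' : Type u) [Group E'] [Finite E'] (τ : E' →* Cfsg.Omega F ⇑(qExt m (qBin a b))),
      Cfsg.IsStemExtension τ → IsPGroup p τ.ker → ∀ z ∈ τ.ker, z = 1 := by
    intro E' _ _ τ hτ hk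
    set A := (Fintype.card F ^ (m + 1) + 1) *
      ∏ i ∈ Finset.range m, (Fintype.card F ^ (2 * (i + 1)) - 1) with hA
    have hpA : ¬ p ∣ A := fun h => by
      rcases (Nat.Prime.dvd_mul hp).1 h with h | h
      · have := (Nat.dvd_add_right (hpq.trans (dvd_pow_self _ (by omega : m + 1 ≠ 0)))).1 h
        exact hp.ne_one (Nat.dvd_one.1 this)
      · exact not_dvd_of_mul_pred hp hpq hq1 _ h
    have hN : NoFour (qExt m (qBin a b)) := fun h h8 =>
      noFour_minus hab m (by omega) h h8
    have h1 := card_eich_mul_index hQ (by omega)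
    rw [card_qAut_minus hab] at h1
    by_cases h2 : (2 : F) = 0
    · have hidx : (commutator (qAut (qExt m (qBin a b)))).index = 2 := by
        haveI : CharP F 2 := CharTwo.of_one_ne_zero_of_two_eq_zero one_ne_zero h2
        exact index_commutator_two _ hQ (by omega) (Or.inr (by omega))
      rw [hidx] at h1
      refine omega_stem_pgroup hQ (by omega) hp (fun _ => by omega) hN
        (minusFrame m a b) (c := A) ?_ hpA E' τ hτ hk
      rw [hι, show 2 * m + 2 - m - 1 = m + 1 by omega, mul_comm m (m + 1)]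
      simp only [hA]
      nlinarith [h1]
    · rw [index_commutator_odd _ h2 hQ (by omega)] at h1
      have hev : 2 ∣ A := Dvd.dvd.mul_right
        ((odd_card_of_two_ne_zero h2).pow.add_odd odd_one).two_dvd _
      refine omega_stem_pgroup hQ (by omega) hp (fun _ => by omega) hN
        (minusFrame m a b) (c := A / 2) ?_ (fun h => hpA (h.trans (Nat.div_dvd_of_dvd hev))) E' τ hτ hk
      obtain ⟨r, hr⟩ := hev
      rw [hr, Nat.mul_div_cancel_left r (by norm_num), hι, show 2 * m + 2 - m - 1 = m + 1 by omega,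
        mul_comm m (m + 1)]
      rw [mul_assoc (2 * _), ← hA, hr] at h1
      nlinarith [h1]
  obtain ⟨n₀, hl₀⟩ := SplitLift.Minus.exists_long (F := K) (m := m + 1) (σ := σ) (p := p)
  have hU : (uni K (2 * (m + 1))).subgroupOf (TwistBN.Minus.GM (m + 1) σ) ≠ ⊥ := by
    obtain ⟨u, hu, hf, hne'⟩ : ∃ u : GL (Fin (2 * (m + 1))) K, u ∈ uni K (2 * (m + 1)) ∧
        u ∈ TwistBN.Minus.GM (m + 1) σ ∧ u ≠ 1 := by
      set u := SplitLift.Odd.shortGL (F := K) (n := 2 * (m + 1)) 0 (by omega) (Cfsg.Agent.S2426.root (true, 1))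
      have hu : u ∈ uni K (2 * (m + 1)) := (SplitLift.Odd.short_uni 0 (by omega) 1).1
      have hf : TwistBN.Minus.psi (m + 1) σ u = u := SplitLift.Minus.psi_short (by omega) fun i j => by
        rw [Cfsg.Agent.S2426.root_val]; fin_cases i <;> fin_cases j <;> simp
      refine ⟨u, hu, TwistBN.Minus.BM_le_GM (TwistBN.Minus.UM_le_BM
        ⟨⟨hu, TwistBN.Plus.bd_mem (by omega) (SplitLift.Odd.short_bd _ _ _) (SplitLift.Odd.short_th _ _ _)⟩, hf⟩),
        fun h => ?_⟩
      have e := congrArg (fun g : GL (Fin (2 * (m + 1))) K => g.1 ⟨0, by omega⟩ ⟨1, by omega⟩) h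
      simp [u, SplitLift.Odd.shortGL_val, SplitLift.Odd.shortAct, Cfsg.Agent.S2426.root_val, Pi.single_apply,
        Fin.ext_iff] at e
    intro h
    have hm' : (⟨u, hf⟩ : TwistBN.Minus.GM (m + 1) σ) ∈
        (uni K (2 * (m + 1))).subgroupOf (TwistBN.Minus.GM (m + 1) σ) := hu
    rw [h, Subgroup.mem_bot] at hm'
    exact hne' (congrArg Subtype.val hm')
  haveI : Fintype (TwistBN.Minus.bnPair (m + 1) σ).S := Fintype.ofFinite _
  have hone : 1 ≤ Fintype.card F - 1 := by have := Fintype.one_lt_card (α := F); omega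
  have hone2 : 1 ≤ Fintype.card F ^ 2 - 1 := by
    have : 4 ≤ Fintype.card F ^ 2 := by
      have := Fintype.one_lt_card (α := F); nlinarith
    omega
  set mid : GL (Fin (2 * (m + 1))) K := TwistBN.Plus.pP K (TwistBN.Minus.tMid (m + 1) (by omega))
  let bd : TwistBN.Minus.GM (m + 1) σ → ℕ := fun s =>
    if (s : GL (Fin (2 * (m + 1))) K) = mid then Fintype.card F ^ 2 - 1 else Fintype.card F - 1
  have hrk : ∀ s ∈ (TwistBN.Minus.bnPair (m + 1) σ).S, ∃ (L : Type u) (_ : Field L) (_ : Fintype L) (_ : CharP L p)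
      (φ : Matrix.SpecialLinearGroup (Fin 2) L →* TwistBN.Minus.GM (m + 1) σ),
      SplitLift.RankOne L ((uni K (2 * (m + 1))).subgroupOf (TwistBN.Minus.GM (m + 1) σ)) n₀ s φ ∧
        Fintype.card L - 1 ≤ bd s ∧ 1 ≤ bd s := by
    rintro _ ⟨i, rfl⟩
    by_cases h : i.1.val + 2 < m + 1
    · have hval : (TwistBN.Plus.pP K (TwistBN.Minus.tF i)) = TwistBN.Plus.pP K (tPerm i.1.val (by omega)) := by
        rw [TwistBN.Minus.tF, if_pos h]
      obtain ⟨φ, hφ⟩ := SplitLift.Minus.rankOne_outer hl₀ hfix h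
        (s := ⟨TwistBN.Plus.pP K (TwistBN.Minus.tF i), TwistBN.Minus.refl_mem_GM σ i⟩) hval
      refine ⟨F, inferInstance, inferInstance, inferInstance, φ, hφ, ?_⟩
      simp only [bd]
      split_ifs
      · exact ⟨by have := Nat.le_self_pow (two_ne_zero (α := ℕ)) (Fintype.card F); omega, hone2⟩
      · exact ⟨le_rfl, hone⟩
    · have hval : (TwistBN.Plus.pP K (TwistBN.Minus.tF i)) = mid := by rw [TwistBN.Minus.tF, if_neg h]
      obtain ⟨φ, hφ⟩ := SplitLift.Minus.rankOne_mid hl₀ (by omega) hσσ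
        (s := ⟨TwistBN.Plus.pP K (TwistBN.Minus.tF i), TwistBN.Minus.refl_mem_GM σ i⟩) hval
      refine ⟨K, inferInstance, inferInstance, inferInstance, φ, hφ, ?_⟩
      simp only [bd]
      rw [if_pos hval, hcard]
      exact ⟨le_rfl, hone2⟩
  have hS : ∏ s : (TwistBN.Minus.bnPair (m + 1) σ).S, bd s.1 ≤
      (Fintype.card F - 1) ^ (m - 1) * (Fintype.card F ^ 2 - 1) := by
    let e : TwistBN.Minus.Idx (m + 1) ≃ (TwistBN.Minus.bnPair (m + 1) σ).S :=
      Equiv.ofInjective _ fun i j h => TwistBN.Minus.tF_inj (by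
        have h' : TwistBN.Plus.pP K (TwistBN.Minus.tF i) = TwistBN.Plus.pP K (TwistBN.Minus.tF j) :=
          congrArg Subtype.val h
        exact pP_inj h')
    rw [← e.prod_comp]
    refine le_of_eq ?_
    obtain ⟨j, rfl⟩ : ∃ j, m = j + 1 := ⟨m - 1, by omega⟩
    let e2 : Fin (j + 1) ≃ TwistBN.Minus.Idx (j + 1 + 1) :=
      { toFun := fun i => ⟨⟨i.val, by omega⟩, by show i.val + 1 < j + 1 + 1; omega⟩
        invFun := fun i => ⟨i.1.val, by have := i.2; omega⟩
        left_inv := fun _ => rfl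
        right_inv := fun _ => rfl }
    rw [← e2.prod_comp, Fin.prod_univ_castSucc]
    have h1 : ∀ i : Fin j, bd (e (e2 i.castSucc)).1 = Fintype.card F - 1 := fun i => by
      refine if_neg fun h => ?_
      have h' := pP_inj (show TwistBN.Plus.pP K _ = TwistBN.Plus.pP K _ from h)
      have := TwistBN.Minus.tF_inj (a₁ := e2 i.castSucc) (a₂ := e2 (Fin.last j)) (h'.trans (by
        rw [TwistBN.Minus.tF, if_neg (by simp [e2])]))
      have := congrArg (fun x => x.1.val) this
      simp [e2] at this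
      omega
    have h2 : bd (e (e2 (Fin.last j))).1 = Fintype.card F ^ 2 - 1 := if_pos (by
      show TwistBN.Plus.pP K (TwistBN.Minus.tF _) = mid
      rw [TwistBN.Minus.tF, if_neg (by simp [e2])])
    simp only [h1, h2, Finset.prod_const, Finset.card_univ, Fintype.card_fin, Nat.add_sub_cancel]
  have hfin : ∀ (M : Subgroup (TwistBN.Minus.GM (m + 1) σ)) [M.Normal]
      (_ : (uni K (2 * (m + 1))).subgroupOf (TwistBN.Minus.GM (m + 1) σ) ≤ M)
      (_ : Cfsg.Omega F ⇑(qExt m (qBin a b)) ≃* M) (N : ℕ),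
      Nat.card ↥((TwistBN.Minus.bnPair (m + 1) σ).B ⊓ (TwistBN.Minus.bnPair (m + 1) σ).N) ≤ N * Nat.card
        ↥(((TwistBN.Minus.bnPair (m + 1) σ).B ⊓ (TwistBN.Minus.bnPair (m + 1) σ).N) ⊓ M : Subgroup _) →
      ∀ (E' : Type u) [Group E'] [Finite E'] (τ : E' →* Cfsg.Omega F ⇑(qExt m (qBin a b))),
        Cfsg.IsStemExtension τ → Nat.card τ.ker ≤ N := by
    intro M _ hUM e N hT E' _ _ τ hτ
    refine SplitLift.stem_card_le p hpc (fun E'' _ _ τ' hτ' hco => ?_) E' τ hτ
    have h := coprime_le_of_equiv hQ (by omega) hl₀.opp M hUM e hU bd hrk hT E'' τ' hτ' hco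
    have hsq : (Fintype.card F - 1) ^ (m - 1) * (Fintype.card F ^ 2 - 1) =
        (Fintype.card F - 1) ^ m * (Fintype.card F + 1) := by
      have h4 := Nat.sq_sub_sq (Fintype.card F) 1
      rw [one_pow] at h4
      rw [h4, ← mul_assoc, mul_right_comm, ← pow_succ, show m - 1 + 1 = m by omega]
    refine Nat.le_of_mul_le_mul_right ?_ (Nat.mul_pos (pow_pos hone m) (Nat.succ_pos (Fintype.card F)))
    calc Nat.card τ'.ker * ((Fintype.card F - 1) ^ m * (Fintype.card F + 1))
        ≤ Nat.card τ'.ker *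
          Nat.card ↥((TwistBN.Minus.bnPair (m + 1) σ).B ⊓ (TwistBN.Minus.bnPair (m + 1) σ).N) :=
          Nat.mul_le_mul le_rfl (card_torus_minus hcard σ hfix m)
      _ ≤ _ := h
      _ ≤ _ := Nat.mul_le_mul le_rfl (hS.trans_eq hsq)
  have hequiv := TwistBN.Minus.omega_minus_equiv (p := p) m hab (by omega) σ hfix hsum hprod hne hσα hσβ
  rw [← coe_qExt_qBin] at hequiv
  by_cases h2 : (2 : F) = 0
  · rcases hequiv with ⟨⟨e⟩⟩ | ⟨hp2, -⟩
    · have h := hfin ⊤ le_top (e.trans Subgroup.topEquiv.symm) 1 (by rw [inf_top_eq, one_mul]) E σ' hσ'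
      exact ⟨h.trans (by norm_num), fun _ => h⟩
    · exact absurd ((Nat.prime_dvd_prime_iff_eq hp Nat.prime_two).1
        ((CharP.cast_eq_zero_iff F p 2).1 (by exact_mod_cast h2))) hp2
  · refine ⟨?_, fun h => absurd h h2⟩
    rcases hequiv with ⟨⟨e⟩⟩ | ⟨hp2, M, hM, ⟨e⟩⟩
    · have h := hfin ⊤ le_top (e.trans Subgroup.topEquiv.symm) 1 (by rw [inf_top_eq, one_mul]) E σ' hσ'
      exact h.trans (by norm_num)
    · haveI : M.Normal := Subgroup.normal_of_index_eq_two hM
      exact hfin M ((TwistBN.Minus.split p).le_of_index_two hp2 M hM) e 2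
        (SplitLift.card_torus_index_two M hM _) E σ' hσ'

end CfsgLib.Known.OrthCase
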