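import Cfsg.Agent.Lib.Known.OrthCase.Cover
import Cfsg.Agent.Lib.Known.OrthLift.Transport
import Mathlib.GroupTheory.SpecificGroups.KleinFour

/-!
# Reading off the multiplier from the bound and the cover
-/

set_option autoImplicit false
set_option linter.unusedSectionVars false

namespace CfsgLib.Known.OrthCase

open Matrix CfsgLib.Classical CfsgLib.Known.OrthLift CfsgLib.Known.OrthSpin

universe u

variable {F : Type u} [Field F] [Fintype F] {ι : Type} [Fintype ι] [DecidableEq ι]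
  {Q : QuadraticForm F (ι → F)}

theorem omega_ker_le_pomega (hQ : PolarNondeg Q) (hn : 5 ≤ Fintype.card ι) :
    (omegaCover hQ hn).ker ≤ (pomegaCover hQ hn).ker := fun x hx => by
  show QuotientGroup.mk' _ (omegaCover hQ hn x) = 1
  rw [MonoidHom.mem_ker.1 hx, map_one]

/-- A trivial multiplier. -/
theorem multiplier_one (hQ : PolarNondeg Q) (hn : 5 ≤ Fintype.card ι)
    (hΩ : ∀ (E : Type u) [Group E] [Finite E] (σ : E →* Cfsg.Omega F ⇑Q), Cfsg.IsStemExtension σ →
      Nat.card σ.ker ≤ 1) (hZ : Nat.card (Subgroup.center (Cfsg.Omega F ⇑Q)) = 1)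
    {A : Type} [CommGroup A] [Subsingleton A] : Cfsg.HasSchurMultiplier (Cfsg.POmega F ⇑Q) A := by
  haveI : Finite (ι → F) := inferInstance
  haveI : Finite (Cfsg.POmega F ⇑Q) := inferInstance
  have hid : Cfsg.IsStemExtension (MonoidHom.id (Cfsg.POmega F ⇑Q)) := by
    refine ⟨Function.surjective_id, fun x hx => ?_, fun x hx => ?_⟩ <;>
      (rw [show x = 1 from hx]; exact one_mem _)
  haveI : Subsingleton (MonoidHom.id (Cfsg.POmega F ⇑Q)).ker :=
    ⟨fun a b => Subtype.ext ((show a.1 = 1 from a.2).trans (show b.1 = 1 from b.2).symm)⟩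
  refine SplitLift.hasSchurMultiplier_of_max (commutator_pomega_eq_top hQ hn) _ hid
    ⟨{ toFun := fun _ => 1
       invFun := fun _ => 1
       left_inv := fun _ => Subsingleton.elim _ _
       right_inv := fun _ => Subsingleton.elim _ _
       map_mul' := fun _ _ => (mul_one 1).symm }⟩ fun E _ _ σ hσ => ?_
  have := stem_card_le_pomega hQ hn hΩ E σ hσ
  rw [hZ, one_mul] at this
  exact this.trans (Nat.card_pos (α := (MonoidHom.id (Cfsg.POmega F ⇑Q)).ker))

/-- A multiplier of order two. -/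
theorem multiplier_two (hQ : PolarNondeg Q) (hn : 5 ≤ Fintype.card ι) (h2 : (2 : F) ≠ 0)
    (hΩ : ∀ (E : Type u) [Group E] [Finite E] (σ : E →* Cfsg.Omega F ⇑Q), Cfsg.IsStemExtension σ →
      Nat.card σ.ker ≤ 2) (hZ : Nat.card (Subgroup.center (Cfsg.Omega F ⇑Q)) = 1)
    {e f g : ι → F} {a : F} (h : Trio Q e f g a) {A : Type} [CommGroup A] [IsCyclic A]
    (hA : Nat.card A = 2) : Cfsg.HasSchurMultiplier (Cfsg.POmega F ⇑Q) A := by
  haveI : Finite (Spin Q) := spin_finite hQ (by rwa [Module.finrank_pi])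
  obtain ⟨s, -, -, hs, hord⟩ := exists_ker_sign hQ hn h2 h
  set σ₀ := pomegaCover hQ hn
  have h₀ : Cfsg.IsStemExtension σ₀ := pomegaCover_stem hQ hn
  have hmax : ∀ (E : Type u) [Group E] [Finite E] (σ : E →* Cfsg.POmega F ⇑Q),
      Cfsg.IsStemExtension σ → Nat.card σ.ker ≤ 2 := fun E _ _ σ hσ => by
    have := stem_card_le_pomega hQ hn hΩ E σ hσ
    rwa [hZ, mul_one] at this
  have hs0 : s ∈ σ₀.ker := omega_ker_le_pomega hQ hn hs
  have hcard : Nat.card σ₀.ker = 2 := by
    refine le_antisymm (hmax _ σ₀ h₀) (hord ▸ ?_)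
    rw [← Nat.card_zpowers]
    exact Nat.card_le_card_of_injective (Subgroup.inclusion (Subgroup.zpowers_le.2 hs0))
      (Subgroup.inclusion_injective _)
  refine SplitLift.hasSchurMultiplier_of_max (commutator_pomega_eq_top hQ hn) σ₀ h₀ ?_ fun E _ _ σ hσ =>
    hcard ▸ hmax E σ hσ
  haveI : Fact (Nat.Prime 2) := ⟨Nat.prime_two⟩
  haveI : IsCyclic σ₀.ker := isCyclic_of_prime_card hcard
  exact ⟨mulEquivOfCyclicCardEq (by rw [hcard, hA])⟩

/-- A multiplier of order four. -/
theorem multiplier_four (hQ : PolarNondeg Q) (hn : 5 ≤ Fintype.card ι) (h2 : (2 : F) ≠ 0)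
    (hΩ : ∀ (E : Type u) [Group E] [Finite E] (σ : E →* Cfsg.Omega F ⇑Q), Cfsg.IsStemExtension σ →
      Nat.card σ.ker ≤ 2) (hZ : Nat.card (Subgroup.center (Cfsg.Omega F ⇑Q)) = 2)
    {l : ℕ} (e f g : Fin l → ι → F) (a : Fin l → F) (h : ∀ i, Trio Q (e i) (f i) (g i) (a i))
    (horth : ∀ i j, i ≠ j → QuadraticMap.polar Q (e i) (e j) = 0 ∧
      QuadraticMap.polar Q (e i) (f j) = 0 ∧ QuadraticMap.polar Q (f i) (f j) = 0)
    (hspan : Submodule.span F (Set.range e ∪ Set.range f) = ⊤) (hl : 0 < l)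
    {A : Type} [CommGroup A] (hA : (Odd l → IsCyclic A ∧ Nat.card A = 4) ∧ (Even l → IsKleinFour A)) :
    Cfsg.HasSchurMultiplier (Cfsg.POmega F ⇑Q) A := by
  classical
  haveI : Finite (Spin Q) := spin_finite hQ (by rwa [Module.finrank_pi])
  obtain ⟨s, hscl, hsa, hs, hord⟩ := exists_ker_sign hQ hn h2 (h ⟨0, hl⟩)
  obtain ⟨z, hz, hz0, hzn⟩ := exists_ker_neg hQ hn h2 e f g a h horth hspan hscl hsa
  set σ₀ := pomegaCover hQ hn
  have h₀ : Cfsg.IsStemExtension σ₀ := pomegaCover_stem hQ hn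
  have hmax : ∀ (E : Type u) [Group E] [Finite E] (σ : E →* Cfsg.POmega F ⇑Q),
      Cfsg.IsStemExtension σ → Nat.card σ.ker ≤ 4 := fun E _ _ σ hσ => by
    have := stem_card_le_pomega hQ hn hΩ E σ hσ
    rwa [hZ] at this
  have hs0 : s ∈ σ₀.ker := omega_ker_le_pomega hQ hn hs
  have hss : s * s = 1 := by rw [← sq, ← hord, pow_orderOf_eq_one]
  have hs1 : s ≠ 1 := fun e => by rw [e, orderOf_one] at hord; omega
  let v : Fin 2 × Fin 2 → σ₀.ker := fun x => ⟨s, hs0⟩ ^ x.1.val * ⟨z, hz0⟩ ^ x.2.val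
  have hv : Function.Injective v := by
    have hi : ∀ i : Fin 2, ((⟨z, hz0⟩ : σ₀.ker) ^ i.val).1 ∈ (omegaCover hQ hn).ker → i = 0 := by
      intro i hi
      fin_cases i
      · rfl
      · exact absurd (by simpa using hi) hzn
    rintro ⟨i, j⟩ ⟨i', j'⟩ e
    have e' := congrArg Subtype.val e
    simp only [v, Subgroup.coe_mul, SubgroupClass.coe_pow] at e'
    have hj : j = j' := by
      fin_cases j <;> fin_cases j' <;> first | rfl | (exfalso; simp at e')
      · exact hzn (by
          have : z = (s ^ i'.val)⁻¹ * s ^ i.val := by rw [e']; group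
          rw [this]; exact mul_mem (inv_mem (pow_mem hs _)) (pow_mem hs _))
      · exact hzn (by
          have : z = (s ^ i.val)⁻¹ * s ^ i'.val := by rw [← e']; group
          rw [this]; exact mul_mem (inv_mem (pow_mem hs _)) (pow_mem hs _))
    subst hj
    have e2 : s ^ i.val = s ^ i'.val := mul_right_cancel e'
    fin_cases i <;> fin_cases i' <;> first | rfl | (exfalso; simp at e2; first | exact hs1 e2 | exact hs1 e2.symm)
  have hcard : Nat.card σ₀.ker = 4 := by
    refine le_antisymm (hmax _ σ₀ h₀) (le_of_eq_of_le ?_ (Nat.card_le_card_of_injective v hv))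
    simp
  refine SplitLift.hasSchurMultiplier_of_max (commutator_pomega_eq_top hQ hn) σ₀ h₀ ?_ fun E _ _ σ hσ =>
    hcard ▸ hmax E σ hσ
  rcases Nat.even_or_odd l with hev | hodd
  · haveI := hA.2 hev
    have hzz : z * z = 1 := by
      rw [hz]; obtain ⟨k, rfl⟩ := hev; rw [← two_mul, pow_mul, sq, hss, one_pow]
    have hall : ∀ x : σ₀.ker, x ^ 2 = 1 := by
      intro x
      obtain ⟨⟨i, j⟩, rfl⟩ := ((Nat.bijective_iff_injective_and_card v).2 ⟨hv, by rw [hcard]; simp⟩).2 x
      refine Subtype.ext ?_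
      have hc : Commute (s ^ i.val) (z ^ j.val) :=
        (show Commute s z from Subgroup.mem_center_iff.1 (h₀.2.1 hz0) s).pow_pow _ _
      simp only [v, SubgroupClass.coe_pow, Subgroup.coe_mul, OneMemClass.coe_one]
      rw [hc.mul_pow, ← pow_mul, ← pow_mul, mul_comm i.val, mul_comm j.val, pow_mul, pow_mul, sq, hss, sq,
        hzz, one_pow, one_pow, one_mul]
    haveI : IsKleinFour σ₀.ker :=
      { card_four := hcard
        exponent_two := by
          have h1 : Monoid.exponent σ₀.ker ∣ 2 := Monoid.exponent_dvd_of_forall_pow_eq_one hall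
          rcases (Nat.dvd_prime Nat.prime_two).1 h1 with h1 | h1
          · exfalso
            haveI := Monoid.exp_eq_one_iff.1 h1
            exact hs1 (congrArg Subtype.val (Subsingleton.elim (⟨s, hs0⟩ : σ₀.ker) 1))
          · exact h1 }
    exact IsKleinFour.nonempty_mulEquiv
  · obtain ⟨hAc, hAn⟩ := hA.1 hodd
    haveI := hAc
    have hzz : z * z = s := by
      rw [hz]; obtain ⟨k, rfl⟩ := hodd; rw [pow_succ, pow_mul, sq, hss, one_pow, one_mul]
    haveI : IsCyclic σ₀.ker := by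
      refine isCyclic_of_orderOf_eq_card (⟨z, hz0⟩ : σ₀.ker) ?_
      rw [hcard]
      refine orderOf_eq_prime_pow (p := 2) (n := 1) ?_ ?_
      · intro h1
        have := congrArg Subtype.val h1
        simp [sq, hzz] at this
        exact hs1 this
      · refine Subtype.ext ?_
        show z ^ 2 ^ 2 = 1
        rw [show 2 ^ 2 = 2 * 2 from rfl, pow_mul, sq, sq, hzz, hss]
    exact ⟨mulEquivOfCyclicCardEq (by rw [hcard, hAn])⟩

end CfsgLib.Known.OrthCase
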