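import Cfsg.Agent.Lib.Known.OrthCase.Plus
import Cfsg.Agent.Lib.Known.OrthCase.Shapes

/-!
# The multipliers of the hyperbolic orthogonal groups
-/

set_option autoImplicit false
set_option linter.unusedSectionVars false
set_option linter.unusedSimpArgs false

namespace CfsgLib.Known.OrthCase

open Matrix CfsgLib.Classical CfsgLib.Known.OrthLift CfsgLib.Known.OrthSpin

universe u

variable {F : Type u} [Field F] [Fintype F]

/-- The vectors `c • (x_i + r y_i)`. -/
def plusVec (m : ℕ) (i : Fin m) (c r : F) : Fin m ⊕ Fin m → F :=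
  Pi.single (.inl i) c + Pi.single (.inr i) (c * r)

theorem plusVec_quad (m : ℕ) (i : Fin m) (c r : F) : qPlus m F (plusVec m i c r) = c * c * r := by
  simp [coe_qPlus, Cfsg.quadFormPlus, plusVec, Pi.single_apply]
  ring

theorem plusVec_polar (m : ℕ) (i j : Fin m) (c r c' r' : F) (h : i ≠ j) :
    QuadraticMap.polar (qPlus m F) (plusVec m i c r) (plusVec m j c' r') = 0 := by
  simp [quadPlus_polar, plusVec, Pi.single_apply, h, Ne.symm h]

theorem plusVec_polar_self (m : ℕ) (i : Fin m) (c r c' r' : F) :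
    QuadraticMap.polar (qPlus m F) (plusVec m i c r) (plusVec m i c' r') = c * c' * (r + r') := by
  simp [quadPlus_polar, plusVec, Pi.single_apply]
  ring

theorem plus_span (m : ℕ) (h2 : (2 : F) ≠ 0) (S : Set (Fin m ⊕ Fin m → F))
    (h : ∀ i, ∃ c d : F, c ≠ 0 ∧ d ≠ 0 ∧ plusVec m i c 1 ∈ S ∧ plusVec m i d (-1) ∈ S) :
    Submodule.span F S = ⊤ := by
  classical
  rw [eq_top_iff]
  intro v _
  rw [← Finset.univ_sum_single v]
  refine Submodule.sum_mem _ fun x _ => ?_
  obtain ⟨i, hx⟩ : ∃ i, x = .inl i ∨ x = .inr i := by rcases x with i | i <;> exact ⟨i, by simp⟩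
  obtain ⟨c, d, hc, hd, hcS, hdS⟩ := h i
  have e : ∀ t : F, (t / (2 * c)) • plusVec m i c (1 : F) + (t / (2 * d)) • plusVec m i d (-1) =
      (Pi.single (.inl i) t : Fin m ⊕ Fin m → F) := fun t => funext fun y => by
    simp [plusVec, Pi.single_apply]
    split_ifs <;> field_simp <;> ring
  have e' : ∀ t : F, (t / (2 * c)) • plusVec m i c (1 : F) - (t / (2 * d)) • plusVec m i d (-1) =
      (Pi.single (.inr i) t : Fin m ⊕ Fin m → F) := fun t => funext fun y => by
    simp [plusVec, Pi.single_apply]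
    split_ifs <;> field_simp <;> ring
  rcases hx with rfl | rfl
  · rw [← e]
    exact Submodule.add_mem _ (Submodule.smul_mem _ _ (Submodule.subset_span hcS))
      (Submodule.smul_mem _ _ (Submodule.subset_span hdS))
  · rw [← e']
    exact Submodule.sub_mem _ (Submodule.smul_mem _ _ (Submodule.subset_span hcS))
      (Submodule.smul_mem _ _ (Submodule.subset_span hdS))

theorem pomega_plus_multiplier_odd {q : ℕ} (hF : Fintype.card F = q) (l : ℕ) (hl : 5 ≤ l) (hodd : Odd l) :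
    Cfsg.HasCyclicSchurMultiplier (Cfsg.POmega F (Cfsg.quadFormPlus l F)) (Nat.gcd 4 (q ^ l - 1)) := by
  classical
  rw [← coe_qPlus]
  have hQ : PolarNondeg (qPlus l F) := polarNondeg_qPlus l
  have hι : Fintype.card (Fin l ⊕ Fin l) = 2 * l := by simp; omega
  have hn : 5 ≤ Fintype.card (Fin l ⊕ Fin l) := by omega
  have hΩ := fun (E : Type u) [Group E] [Finite E] (σ : E →* Cfsg.Omega F ⇑(qPlus l F))
    (hσ : Cfsg.IsStemExtension σ) => omega_plus_stem_le l (by omega) (by omega) E σ hσ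
  by_cases h2 : (2 : F) = 0
  · have hev : 2 ∣ q := by
      haveI : CharP F 2 := CharTwo.of_one_ne_zero_of_two_eq_zero one_ne_zero h2
      exact hF ▸ Nat.dvd_of_mod_eq_zero (FiniteField.even_card_iff_char_two.1 (ringChar.eq F 2))
    have hg : Nat.gcd 4 (q ^ l - 1) = 1 := by
      have h1 : (q ^ l - 1) % 2 = 1 := by
        have : 2 ∣ q ^ l := hev.trans (dvd_pow_self q (by omega))
        have := Nat.one_le_pow l q (hF ▸ Fintype.card_pos)
        omega
      exact (Nat.Coprime.pow_left 2 (Nat.coprime_two_left.2 (Nat.odd_iff.2 h1)))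
    rw [hg]
    exact multiplier_one hQ hn (fun E _ _ σ hσ => (hΩ E σ hσ).2 h2)
      (card_center_Omega_one _ hQ (by omega) fun _ => h2)
  have hΩ2 := fun (E : Type u) [Group E] [Finite E] (σ : E →* Cfsg.Omega F ⇑(qPlus l F))
    (hσ : Cfsg.IsStemExtension σ) => (hΩ E σ hσ).1
  have hneg : negIso (qPlus l F) ∈ Cfsg.Omega F ⇑(qPlus l F) ↔ q ^ l % 4 = 1 := by
    rw [negIso_mem_Omega_iff _ h2 hQ ⟨l, by omega⟩ (by omega), det_polarGram_qPlus,
      isSquare_neg_one_pow_iff h2, hF]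
  have h1q := Nat.one_le_pow l q (hF ▸ Fintype.card_pos)
  have h0 : (⟨0, by omega⟩ : Fin l) ≠ ⟨1, by omega⟩ ∧ (⟨0, by omega⟩ : Fin l) ≠ ⟨2, by omega⟩ ∧
      (⟨1, by omega⟩ : Fin l) ≠ ⟨2, by omega⟩ := by simp [Fin.ext_iff]
  rcases pow_mod_four h2 l with h4 | h4 <;> rw [hF] at h4
  · have hg : Nat.gcd 4 (q ^ l - 1) = 4 := Nat.gcd_eq_left (Nat.dvd_of_mod_eq_zero (by omega))
    rw [hg]
    have hsq : IsSquare (-1 : F) := by
      have := (isSquare_neg_one_pow_iff h2 l).2 (hF ▸ h4)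
      rwa [hodd.neg_one_pow] at this
    obtain ⟨i, hi⟩ := hsq
    let third : Fin l → Fin l := fun j => if j.val = 0 then ⟨1, by omega⟩ else ⟨0, by omega⟩
    have hthird : ∀ j, j ≠ third j := fun j e => by
      simp only [third] at e
      split_ifs at e <;> simp [Fin.ext_iff] at e <;> omega
    refine multiplier_four hQ hn h2 hΩ2 (card_center_Omega_two _ h2 hQ (by omega) (hneg.2 h4))
      (fun j => plusVec l j 1 1) (fun j => plusVec l j i (-1)) (fun j => plusVec l (third j) 1 1)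
      (fun _ => 1) (fun j => ⟨one_ne_zero, by simp [plusVec_quad], by
        rw [plusVec_quad]; linear_combination hi, by simp [plusVec_quad], by simp [plusVec_polar_self],
        plusVec_polar l _ _ _ _ _ _ (hthird j), plusVec_polar l _ _ _ _ _ _ (hthird j)⟩)
      (fun j j' h => ⟨plusVec_polar l _ _ _ _ _ _ h, plusVec_polar l _ _ _ _ _ _ h,
        plusVec_polar l _ _ _ _ _ _ h⟩)
      (plus_span l h2 _ fun j => ⟨1, i, one_ne_zero, fun e => by simp [e] at hi,
        Or.inl ⟨j, rfl⟩, Or.inr ⟨j, rfl⟩⟩) (by omega) ⟨fun _ => ⟨inferInstance, ?_⟩, fun he => ?_⟩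
    · simp
    · exact absurd hodd (Nat.not_odd_iff_even.2 he)
  · have hg : Nat.gcd 4 (q ^ l - 1) = 2 := by
      obtain ⟨k, hk⟩ : ∃ k, q ^ l - 1 = 4 * k + 2 := ⟨(q ^ l - 1) / 4, by omega⟩
      rw [hk, Nat.gcd_mul_left_add_right]; rfl
    rw [hg]
    exact multiplier_two hQ hn h2 hΩ2 (card_center_Omega_one _ hQ (by omega) fun h => by
        have := hneg.1 h; omega)
      (e := plusVec l ⟨0, by omega⟩ 1 1) (f := plusVec l ⟨1, by omega⟩ 1 1) (g := plusVec l ⟨2, by omega⟩ 1 1)
      (a := 1) ⟨one_ne_zero, by simp [plusVec_quad], by simp [plusVec_quad], by simp [plusVec_quad],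
        plusVec_polar l _ _ _ _ _ _ h0.1, plusVec_polar l _ _ _ _ _ _ h0.2.1,
        plusVec_polar l _ _ _ _ _ _ h0.2.2⟩ (by simp)

theorem pomega_plus_multiplier_even {q : ℕ} (hF : Fintype.card F = q) (l : ℕ) (hl : 4 ≤ l) (heven : Even l)
    (hexc : ¬ (l = 4 ∧ q = 2)) :
    Cfsg.HasSchurMultiplier (Cfsg.POmega F (Cfsg.quadFormPlus l F))
      (Multiplicative (ZMod (Nat.gcd 2 (q ^ l - 1)) × ZMod (Nat.gcd 2 (q ^ l - 1)))) := by
  classical
  rw [← coe_qPlus]
  have hQ : PolarNondeg (qPlus l F) := polarNondeg_qPlus l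
  have hι : Fintype.card (Fin l ⊕ Fin l) = 2 * l := by simp; omega
  have hn : 5 ≤ Fintype.card (Fin l ⊕ Fin l) := by omega
  have hΩ := fun (E : Type u) [Group E] [Finite E] (σ : E →* Cfsg.Omega F ⇑(qPlus l F))
    (hσ : Cfsg.IsStemExtension σ) => omega_plus_stem_le l hl (hF ▸ hexc) E σ hσ
  have h1q := Nat.one_le_pow l q (hF ▸ Fintype.card_pos)
  by_cases h2 : (2 : F) = 0
  · have hev : 2 ∣ q := by
      haveI : CharP F 2 := CharTwo.of_one_ne_zero_of_two_eq_zero one_ne_zero h2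
      exact hF ▸ Nat.dvd_of_mod_eq_zero (FiniteField.even_card_iff_char_two.1 (ringChar.eq F 2))
    have hg : Nat.gcd 2 (q ^ l - 1) = 1 := by
      have : 2 ∣ q ^ l := hev.trans (dvd_pow_self q (by omega))
      exact Nat.coprime_two_left.2 (Nat.odd_iff.2 (by omega))
    rw [hg]
    exact multiplier_one hQ hn (fun E _ _ σ hσ => (hΩ E σ hσ).2 h2)
      (card_center_Omega_one _ hQ (by omega) fun _ => h2)
  have h4 : q ^ l % 4 = 1 := by
    have := (isSquare_neg_one_pow_iff h2 l).1 (by rw [heven.neg_one_pow]; exact IsSquare.one)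
    rwa [hF] at this
  have hg : Nat.gcd 2 (q ^ l - 1) = 2 := Nat.gcd_eq_left (Nat.dvd_of_mod_eq_zero (by omega))
  rw [hg]
  have hneg : negIso (qPlus l F) ∈ Cfsg.Omega F ⇑(qPlus l F) := by
    rw [negIso_mem_Omega_iff _ h2 hQ ⟨l, by omega⟩ (by omega), det_polarGram_qPlus, heven.neg_one_pow]
    exact IsSquare.one
  obtain ⟨k, hk⟩ := heven
  let sg : Fin l → F := fun j => if j.val % 2 = 0 then 1 else -1
  let fst : Fin l → Fin l := fun j => ⟨j.val / 2 * 2, by omega⟩
  let snd : Fin l → Fin l := fun j => ⟨j.val / 2 * 2 + 1, by omega⟩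
  let trd : Fin l → Fin l := fun j => if j.val / 2 = 0 then ⟨2, by omega⟩ else ⟨0, by omega⟩
  have hne : ∀ j, fst j ≠ snd j ∧ fst j ≠ trd j ∧ snd j ≠ trd j := fun j => by
    simp only [fst, snd, trd]
    split_ifs <;> refine ⟨?_, ?_, ?_⟩ <;> simp [Fin.ext_iff] <;> omega
  have horth : ∀ (A B : Fin l → Fin l), (∀ i j : Fin l, i.val / 2 ≠ j.val / 2 → A i ≠ B j) →
      ∀ i j : Fin l, i ≠ j → QuadraticMap.polar (qPlus l F) (plusVec l (A i) 1 (sg i))
        (plusVec l (B j) 1 (sg j)) = 0 := by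
    intro A B h1 i j hij
    by_cases he : A i = B j
    · rw [he, plusVec_polar_self]
      have hd : i.val / 2 = j.val / 2 := by by_contra hd; exact h1 i j hd he
      have : i.val % 2 ≠ j.val % 2 := fun e => hij (Fin.ext (by omega))
      simp only [sg]
      split_ifs <;> first | omega | simp
    · exact plusVec_polar l _ _ _ _ _ _ he
  refine multiplier_four hQ hn h2 (fun E _ _ σ hσ => (hΩ E σ hσ).1) (card_center_Omega_two _ h2 hQ (by omega) hneg)
    (fun j => plusVec l (fst j) 1 (sg j)) (fun j => plusVec l (snd j) 1 (sg j))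
    (fun j => plusVec l (trd j) 1 (sg j)) sg (fun j => ⟨by simp only [sg]; split_ifs <;> simp,
      by simp [plusVec_quad], by simp [plusVec_quad], by simp [plusVec_quad],
      plusVec_polar l _ _ _ _ _ _ (hne j).1, plusVec_polar l _ _ _ _ _ _ (hne j).2.1,
      plusVec_polar l _ _ _ _ _ _ (hne j).2.2⟩)
    (fun i j h => ⟨?_, ?_, ?_⟩) (plus_span l h2 _ fun j => ⟨1, 1, one_ne_zero, one_ne_zero, ?_, ?_⟩)
    (by omega) ⟨fun ho => absurd ho (Nat.not_odd_iff_even.2 ⟨k, hk⟩), fun _ => inferInstance⟩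
  · exact horth fst fst (fun i j hd e => hd (by simp [fst, Fin.ext_iff] at e; omega)) i j h
  · by_cases he : fst i = snd j
    · simp [fst, snd, Fin.ext_iff] at he; omega
    · exact plusVec_polar l _ _ _ _ _ _ he
  · exact horth snd snd (fun i j hd e => hd (by simp [snd, Fin.ext_iff] at e; omega)) i j h
  · have hj := j.isLt
    rcases Nat.mod_two_eq_zero_or_one j.val with e | e
    · left
      refine ⟨⟨j.val / 2 * 2, by omega⟩, ?_⟩
      show plusVec l (fst _) 1 (sg _) = _
      rw [show fst ⟨j.val / 2 * 2, by omega⟩ = j from Fin.ext (by simp [fst]; omega)]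
      simp [sg]
    · right
      refine ⟨⟨j.val / 2 * 2, by omega⟩, ?_⟩
      show plusVec l (snd _) 1 (sg _) = _
      rw [show snd ⟨j.val / 2 * 2, by omega⟩ = j from Fin.ext (by simp [snd]; omega)]
      simp [sg]
  · have hj := j.isLt
    rcases Nat.mod_two_eq_zero_or_one j.val with e | e
    · left
      refine ⟨⟨j.val / 2 * 2 + 1, by omega⟩, ?_⟩
      show plusVec l (fst _) 1 (sg _) = _
      rw [show fst ⟨j.val / 2 * 2 + 1, by omega⟩ = j from Fin.ext (by simp [fst]; omega)]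
      simp [sg]
    · right
      refine ⟨⟨j.val / 2 * 2 + 1, by omega⟩, ?_⟩
      show plusVec l (snd _) 1 (sg _) = _
      rw [show snd ⟨j.val / 2 * 2 + 1, by omega⟩ = j from Fin.ext (by simp [snd]; omega)]
      simp [sg]

end CfsgLib.Known.OrthCase
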