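import Cfsg.Agent.Lib.Known.OrthCase.Minus
import Cfsg.Agent.Lib.Known.OrthCase.PlusMult

/-!
# The multipliers of the elliptic orthogonal groups
-/

set_option autoImplicit false
set_option linter.unusedSectionVars false
set_option linter.unusedSimpArgs false

namespace CfsgLib.Known.OrthCase

open Matrix CfsgLib.Classical CfsgLib.Known.OrthLift CfsgLib.Known.OrthSpin

universe u

variable {F : Type u} [Field F] [Fintype F]

/-- Vectors supported on the standard pairs. -/
def pairsEmb (F : Type u) [Field F] (m : ℕ) : (Fin m ⊕ Fin m → F) →ₗ[F] ((Fin m ⊕ Fin m) ⊕ Fin 2 → F) where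
  toFun v := Sum.elim v 0
  map_add' v w := funext fun i => by cases i <;> simp
  map_smul' c v := funext fun i => by cases i <;> simp

theorem minus_quad_elim (m : ℕ) (a b : F) (v : Fin m ⊕ Fin m → F) (z : Fin 2 → F) :
    qExt m (qBin a b) (Sum.elim v z) = qPlus m F v + (z 0 ^ 2 + a * z 0 * z 1 + b * z 1 ^ 2) := by
  simp [coe_qExt_qBin, coe_qPlus, Cfsg.quadFormMinus, Cfsg.quadFormPlus]

theorem minus_polar_elim (m : ℕ) (a b : F) (v v' : Fin m ⊕ Fin m → F) (z z' : Fin 2 → F) :
    QuadraticMap.polar (qExt m (qBin a b)) (Sum.elim v z) (Sum.elim v' z') =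
      QuadraticMap.polar (qPlus m F) v v' +
        (2 * z 0 * z' 0 + a * (z 0 * z' 1 + z' 0 * z 1) + 2 * b * z 1 * z' 1) := by
  rw [quadMinus_polar, quadPlus_polar]
  simp

theorem pomega_minus_multiplier {q : ℕ} (hF : Fintype.card F = q) (m : ℕ) (hm : 3 ≤ m) {a b : F}
    (hab : BinAniso a b) :
    Cfsg.HasCyclicSchurMultiplier (Cfsg.POmega F (Cfsg.quadFormMinus m F a b))
      (Nat.gcd 4 (q ^ (m + 1) + 1)) := by
  classical
  rw [← coe_qExt_qBin]
  have hQ : PolarNondeg (qExt m (qBin a b)) := polarNondeg_qExt (polarNondeg_qBin hab) m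
  have hι : Fintype.card ((Fin m ⊕ Fin m) ⊕ Fin 2) = 2 * m + 2 := by simp; omega
  have hn : 5 ≤ Fintype.card ((Fin m ⊕ Fin m) ⊕ Fin 2) := by omega
  have hΩ := fun (E : Type u) [Group E] [Finite E] (σ : E →* Cfsg.Omega F ⇑(qExt m (qBin a b)))
    (hσ : Cfsg.IsStemExtension σ) => omega_minus_stem_le hab m hm E σ hσ
  by_cases h2 : (2 : F) = 0
  · have hev : 2 ∣ q := by
      haveI : CharP F 2 := CharTwo.of_one_ne_zero_of_two_eq_zero one_ne_zero h2
      exact hF ▸ Nat.dvd_of_mod_eq_zero (FiniteField.even_card_iff_char_two.1 (ringChar.eq F 2))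
    have hg : Nat.gcd 4 (q ^ (m + 1) + 1) = 1 := by
      have : 2 ∣ q ^ (m + 1) := hev.trans (dvd_pow_self q (by omega))
      exact (Nat.Coprime.pow_left 2 (Nat.coprime_two_left.2 (Nat.odd_iff.2 (by omega))))
    rw [hg]
    exact multiplier_one hQ hn (fun E _ _ σ hσ => (hΩ E σ hσ).2 h2)
      (card_center_Omega_one _ hQ (by omega) fun _ => h2)
  have hΩ2 := fun (E : Type u) [Group E] [Finite E] (σ : E →* Cfsg.Omega F ⇑(qExt m (qBin a b)))
    (hσ : Cfsg.IsStemExtension σ) => (hΩ E σ hσ).1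
  have hneg : negIso (qExt m (qBin a b)) ∈ Cfsg.Omega F ⇑(qExt m (qBin a b)) ↔ q ^ (m + 1) % 4 = 3 := by
    rw [negIso_mem_Omega_iff _ h2 hQ ⟨m + 1, by omega⟩ (by omega), isSquare_det_polarGram_qExt_qBin h2 hab,
      hF]
  let emb := pairsEmb F m
  have equad : ∀ (i : Fin m) (c r : F), qExt m (qBin a b) (emb (plusVec m i c r)) = c * c * r := fun i c r => by
    show qExt m (qBin a b) (Sum.elim (plusVec m i c r) (0 : Fin 2 → F)) = _
    rw [minus_quad_elim, plusVec_quad]
    simp
  have epolar : ∀ v v' : Fin m ⊕ Fin m → F,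
      QuadraticMap.polar (qExt m (qBin a b)) (emb v) (emb v') = QuadraticMap.polar (qPlus m F) v v' :=
    fun v v' => by
      show QuadraticMap.polar (qExt m (qBin a b)) (Sum.elim v (0 : Fin 2 → F)) (Sum.elim v' (0 : Fin 2 → F)) = _
      rw [minus_polar_elim]
      simp
  rcases pow_mod_four h2 (m + 1) with h4 | h4 <;> rw [hF] at h4
  · have hg : Nat.gcd 4 (q ^ (m + 1) + 1) = 2 := by
      obtain ⟨k, hk⟩ : ∃ k, q ^ (m + 1) + 1 = 4 * k + 2 := ⟨(q ^ (m + 1) + 1) / 4, by omega⟩
      rw [hk, Nat.gcd_mul_left_add_right]; rfl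
    rw [hg]
    have h0 : (⟨0, by omega⟩ : Fin m) ≠ ⟨1, by omega⟩ ∧ (⟨0, by omega⟩ : Fin m) ≠ ⟨2, by omega⟩ ∧
        (⟨1, by omega⟩ : Fin m) ≠ ⟨2, by omega⟩ := by simp [Fin.ext_iff]
    exact multiplier_two hQ hn h2 hΩ2 (card_center_Omega_one _ hQ (by omega) fun h => by
        have := hneg.1 h; omega)
      (e := emb (plusVec m ⟨0, by omega⟩ 1 1)) (f := emb (plusVec m ⟨1, by omega⟩ 1 1))
      (g := emb (plusVec m ⟨2, by omega⟩ 1 1))
      (a := 1) ⟨one_ne_zero, by simp [equad], by simp [equad], by simp [equad],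
        (epolar _ _).trans (plusVec_polar m _ _ _ _ _ _ h0.1),
        (epolar _ _).trans (plusVec_polar m _ _ _ _ _ _ h0.2.1),
        (epolar _ _).trans (plusVec_polar m _ _ _ _ _ _ h0.2.2)⟩ (by simp)
  · have hg : Nat.gcd 4 (q ^ (m + 1) + 1) = 4 := Nat.gcd_eq_left (Nat.dvd_of_mod_eq_zero (by omega))
    rw [hg]
    obtain ⟨k, rfl⟩ : ∃ k, m = 2 * k := by
      rcases Nat.even_or_odd m with ⟨k, hk⟩ | ⟨k, hk⟩
      · exact ⟨k, by omega⟩
      · exfalso
        subst hk
        have : q ^ (2 * k + 1 + 1) % 4 = (q ^ 2 % 4) ^ (k + 1) % 4 := by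
          rw [← Nat.pow_mod, ← pow_mul]
          congr 2
        rcases Nat.even_or_odd q with ⟨j, hj⟩ | ⟨j, hj⟩
        · have h' : (q ^ 2) % 4 = 0 := by subst hj; ring_nf; omega
          rw [this, h', zero_pow (by omega)] at h4
          omega
        · have h' : (q ^ 2) % 4 = 1 := by subst hj; ring_nf; omega
          rw [this, h', one_pow] at h4
          omega
    -- the discriminant
    have hm1 : ¬ IsSquare (-1 : F) := fun h => by
      have := (isSquare_neg_one_pow_iff h2 (2 * k + 1)).1 (by rw [(odd_two_mul_add_one k).neg_one_pow]; exact h)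
      rw [hF] at this
      omega
    have hns : ¬ IsSquare (a * a - 4 * b) := by
      rintro ⟨r, hr⟩
      exact one_ne_zero (hab ((r - a) / 2) 1 (by field_simp; linear_combination -hr)).2
    obtain ⟨s, hs⟩ : IsSquare (b - a * a / 4) := by
      have hd : a * a - 4 * b ≠ 0 := fun h => hns (by rw [h]; exact IsSquare.zero)
      have hq : IsSquare ((-1) * (a * a - 4 * b)) := by
        exact isSquare_mul_of_not_isSquare h2 hm1 hns
      obtain ⟨r, hr⟩ := hq
      refine ⟨r / 2, ?_⟩
      have h40 : (4 : F) ≠ 0 := by rw [show (4 : F) = 2 * 2 by norm_num]; exact mul_ne_zero h2 h2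
      field_simp
      linear_combination (4 : F) * hr
    have hs0 : s ≠ 0 := fun h => hns ⟨0, by
      rw [h, mul_zero] at hs
      have h40 : (4 : F) ≠ 0 := by rw [show (4 : F) = 2 * 2 by norm_num]; exact mul_ne_zero h2 h2
      field_simp at hs
      linear_combination -hs⟩
    let be : (Fin (2 * k) ⊕ Fin (2 * k)) ⊕ Fin 2 → F := Sum.elim 0 ![1, 0]
    let bf : (Fin (2 * k) ⊕ Fin (2 * k)) ⊕ Fin 2 → F := Sum.elim 0 ![-(a / 2) / s, 1 / s]
    have qbe : qExt (2 * k) (qBin a b) be = 1 := by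
      show qExt (2 * k) (qBin a b) (Sum.elim _ _) = _
      rw [minus_quad_elim]; simp
    have qbf : qExt (2 * k) (qBin a b) bf = 1 := by
      show qExt (2 * k) (qBin a b) (Sum.elim _ _) = _
      rw [minus_quad_elim]
      have h40 : (4 : F) ≠ 0 := by rw [show (4 : F) = 2 * 2 by norm_num]; exact mul_ne_zero h2 h2
      simp
      field_simp at hs ⊢
      linear_combination hs
    have pbb : QuadraticMap.polar (qExt (2 * k) (qBin a b)) be bf = 0 := by
      show QuadraticMap.polar _ (Sum.elim _ _) (Sum.elim _ _) = _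
      rw [minus_polar_elim]
      simp [quadPlus_polar]
      field_simp
      ring
    have pep : ∀ (v : Fin (2 * k) ⊕ Fin (2 * k) → F) (z : Fin 2 → F),
        QuadraticMap.polar (qExt (2 * k) (qBin a b)) (Sum.elim 0 z) (emb v) = 0 ∧
          QuadraticMap.polar (qExt (2 * k) (qBin a b)) (emb v) (Sum.elim 0 z) = 0 := fun v z => by
      constructor <;> (simp only [emb, pairsEmb, LinearMap.coe_mk, AddHom.coe_mk]
                       rw [minus_polar_elim]
                       simp [quadPlus_polar])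
    let sg : Fin (2 * k) → F := fun j => if j.val % 2 = 0 then 1 else -1
    let fst : Fin (2 * k) → Fin (2 * k) := fun j => ⟨j.val / 2 * 2, by omega⟩
    let snd : Fin (2 * k) → Fin (2 * k) := fun j => ⟨j.val / 2 * 2 + 1, by omega⟩
    let trd : Fin (2 * k) → Fin (2 * k) := fun j => if j.val / 2 = 0 then ⟨2, by omega⟩ else ⟨0, by omega⟩
    let e : Fin (2 * k + 1) → (Fin (2 * k) ⊕ Fin (2 * k)) ⊕ Fin 2 → F := fun j =>
      if h : j.val < 2 * k then emb (plusVec _ (fst ⟨j, h⟩) 1 (sg ⟨j, h⟩)) else be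
    let f : Fin (2 * k + 1) → (Fin (2 * k) ⊕ Fin (2 * k)) ⊕ Fin 2 → F := fun j =>
      if h : j.val < 2 * k then emb (plusVec _ (snd ⟨j, h⟩) 1 (sg ⟨j, h⟩)) else bf
    let g : Fin (2 * k + 1) → (Fin (2 * k) ⊕ Fin (2 * k)) ⊕ Fin 2 → F := fun j =>
      if h : j.val < 2 * k then emb (plusVec _ (trd ⟨j, h⟩) 1 (sg ⟨j, h⟩)) else emb (plusVec _ ⟨0, by omega⟩ 1 1)
    let α : Fin (2 * k + 1) → F := fun j => if h : j.val < 2 * k then sg ⟨j, h⟩ else 1
    have hne : ∀ j, fst j ≠ snd j ∧ fst j ≠ trd j ∧ snd j ≠ trd j := fun j => by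
      simp only [fst, snd, trd]
      split_ifs <;> refine ⟨?_, ?_, ?_⟩ <;> simp [Fin.ext_iff] <;> omega
    have horth : ∀ (A B : Fin (2 * k) → Fin (2 * k)), (∀ i j : Fin (2 * k), i.val / 2 ≠ j.val / 2 → A i ≠ B j) →
        ∀ i j : Fin (2 * k), i ≠ j → QuadraticMap.polar (qExt (2 * k) (qBin a b)) (emb (plusVec _ (A i) 1 (sg i)))
          (emb (plusVec _ (B j) 1 (sg j))) = 0 := by
      intro A B h1 i j hij
      rw [epolar]
      by_cases he : A i = B j
      · rw [he, plusVec_polar_self]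
        have hd : i.val / 2 = j.val / 2 := by by_contra hd; exact h1 i j hd he
        have : i.val % 2 ≠ j.val % 2 := fun e => hij (Fin.ext (by omega))
        simp only [sg]
        split_ifs <;> first | omega | simp
      · exact plusVec_polar _ _ _ _ _ _ _ he
    refine multiplier_four hQ hn h2 hΩ2 (card_center_Omega_two _ h2 hQ (by omega) (hneg.2 h4)) e f g α
      (fun j => ?_) (fun i j hij => ?_) ?_ (by omega)
      ⟨fun _ => ⟨inferInstance, by simp⟩, fun he => absurd he (Nat.not_even_iff_odd.2 (odd_two_mul_add_one k))⟩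
    · by_cases h : j.val < 2 * k
      · simp only [e, f, g, α, dif_pos h]
        exact ⟨by simp only [sg]; split_ifs <;> simp, by simp [equad], by simp [equad], by simp [equad],
          (epolar _ _).trans (plusVec_polar _ _ _ _ _ _ _ (hne _).1),
          (epolar _ _).trans (plusVec_polar _ _ _ _ _ _ _ (hne _).2.1),
          (epolar _ _).trans (plusVec_polar _ _ _ _ _ _ _ (hne _).2.2)⟩
      · simp only [e, f, g, α, dif_neg h]
        exact ⟨one_ne_zero, qbe, qbf, by simp [equad], pbb, (pep _ _).1, (pep _ _).1⟩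
    · have hv : ∀ x : Fin (2 * k + 1), ¬ x.val < 2 * k → x.val = 2 * k := fun x hx => by omega
      by_cases hi : i.val < 2 * k <;> by_cases hj : j.val < 2 * k
      · have hij' : (⟨i, hi⟩ : Fin (2 * k)) ≠ ⟨j, hj⟩ := fun h => hij (Fin.ext (Fin.mk.inj_iff.1 h))
        simp only [e, f, dif_pos hi, dif_pos hj]
        refine ⟨horth fst fst (fun i j hd e => hd (by simp [fst, Fin.ext_iff] at e; omega)) _ _ hij', ?_,
          horth snd snd (fun i j hd e => hd (by simp [snd, Fin.ext_iff] at e; omega)) _ _ hij'⟩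
        rw [epolar]
        refine plusVec_polar _ _ _ _ _ _ _ fun h => ?_
        simp [fst, snd, Fin.ext_iff] at h
        omega
      · simp only [e, f, dif_pos hi, dif_neg hj]
        exact ⟨(pep _ _).2, (pep _ _).2, (pep _ _).2⟩
      · simp only [e, f, dif_neg hi, dif_pos hj]
        exact ⟨(pep _ _).1, (pep _ _).1, (pep _ _).1⟩
      · exact absurd (Fin.ext ((hv i hi).trans (hv j hj).symm)) hij
    · set S := Set.range e ∪ Set.range f
      have hp : Submodule.span F {v | emb v ∈ S} = ⊤ := by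
        refine plus_span _ h2 _ fun j => ⟨1, 1, one_ne_zero, one_ne_zero, ?_, ?_⟩
        · rcases Nat.mod_two_eq_zero_or_one j.val with hj | hj
          · refine Or.inl ⟨⟨j.val / 2 * 2, by omega⟩, ?_⟩
            simp only [e, dif_pos (show j.val / 2 * 2 < 2 * k by omega)]
            rw [show fst ⟨j.val / 2 * 2, by omega⟩ = j from Fin.ext (by simp [fst]; omega)]
            simp [sg]
          · refine Or.inr ⟨⟨j.val / 2 * 2, by omega⟩, ?_⟩
            simp only [f, dif_pos (show j.val / 2 * 2 < 2 * k by omega)]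
            rw [show snd ⟨j.val / 2 * 2, by omega⟩ = j from Fin.ext (by simp [snd]; omega)]
            simp [sg]
        · rcases Nat.mod_two_eq_zero_or_one j.val with hj | hj
          · refine Or.inl ⟨⟨j.val / 2 * 2 + 1, by omega⟩, ?_⟩
            simp only [e, dif_pos (show j.val / 2 * 2 + 1 < 2 * k by omega)]
            rw [show fst ⟨j.val / 2 * 2 + 1, by omega⟩ = j from Fin.ext (by simp [fst]; omega)]
            simp [sg]
          · refine Or.inr ⟨⟨j.val / 2 * 2 + 1, by omega⟩, ?_⟩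
            simp only [f, dif_pos (show j.val / 2 * 2 + 1 < 2 * k by omega)]
            rw [show snd ⟨j.val / 2 * 2 + 1, by omega⟩ = j from Fin.ext (by simp [snd]; omega)]
            simp [sg]
      have hemb : ∀ v, emb v ∈ Submodule.span F S := fun v => by
        have hle : Submodule.span F {v | emb v ∈ S} ≤ (Submodule.span F S).comap emb :=
          Submodule.span_le.2 fun w hw => Submodule.subset_span hw
        exact hle (hp ▸ Submodule.mem_top)
      have hbe : be ∈ Submodule.span F S := Submodule.subset_span (Or.inl ⟨Fin.last _, by simp [e]⟩)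
      have hbf : bf ∈ Submodule.span F S := Submodule.subset_span (Or.inr ⟨Fin.last _, by simp [f]⟩)
      rw [eq_top_iff]
      intro v _
      have hdec : v = emb (v ∘ Sum.inl) + ((v (.inr 0) + v (.inr 1) * (a / 2)) • be + (v (.inr 1) * s) • bf) := by
        funext x
        rcases x with x | x
        · simp [emb, pairsEmb, be, bf]
        · fin_cases x <;> simp [emb, pairsEmb, be, bf] <;> field_simp <;> ring
      rw [hdec]
      exact Submodule.add_mem _ (hemb _) (Submodule.add_mem _ (Submodule.smul_mem _ _ hbe)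
        (Submodule.smul_mem _ _ hbf))

end CfsgLib.Known.OrthCase
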