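import Cfsg.Agent.Lib.Known.OrthCase.Odd
import Cfsg.Agent.Lib.Known.OrthCase.Cover

/-!
# The multiplier of the odd orthogonal groups
-/

set_option autoImplicit false
set_option linter.unusedSectionVars false
set_option linter.unusedSimpArgs false

namespace CfsgLib.Known.OrthCase

open Matrix CfsgLib.Classical CfsgLib.Known.OrthLift CfsgLib.Known.OrthSpin

universe u

variable {F : Type u} [Field F] [Fintype F]

/-- The vectors `x_i + y_i`. -/
def oddVec (m : ℕ) (i : Fin m) : OddI m → F := Pi.single (oL i) 1 + Pi.single (oR i) 1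

theorem oddVec_spec (m : ℕ) (i j : Fin m) :
    qOdd m F (oddVec m i) = 1 ∧ (i ≠ j → QuadraticMap.polar (qOdd m F) (oddVec m i) (oddVec m j) = 0) := by
  constructor
  · simp [qOdd_apply, oddVec, Pi.single_apply, oL, oR, oZ]
  · intro h
    simp [quadOdd_polar, oddVec, Pi.single_apply, oL, oR, oZ, h, Ne.symm h]

theorem pomega_odd_multiplier {q : ℕ} (hF : Fintype.card F = q) (hq : Odd q) (m : ℕ) (hm : 3 ≤ m)
    (hexc : ¬ (m = 3 ∧ q = 3)) :
    Cfsg.HasCyclicSchurMultiplier (Cfsg.POmega F (Cfsg.quadFormOdd m F)) 2 := by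
  classical
  have h2 : (2 : F) ≠ 0 := fun h => by
    haveI : CharP F 2 := CharTwo.of_one_ne_zero_of_two_eq_zero one_ne_zero h
    have := FiniteField.even_card_iff_char_two.1 (ringChar.eq F 2)
    rw [hF] at this
    exact Nat.not_even_iff_odd.2 hq (Nat.even_iff.2 this)
  have hQ : PolarNondeg (qOdd m F) := polarNondeg_qOdd h2 m
  have hι : Fintype.card (OddI m) = 2 * m + 1 := by simp [OddI]; omega
  have hn : 5 ≤ Fintype.card (OddI m) := by omega
  have hneg : negIso (qOdd m F) ∈ Cfsg.Omega F ⇑(qOdd m F) → (2 : F) = 0 := fun h => by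
    have hd := det_eq_one_of_mem_Omega h
    rw [coe_negIso, Matrix.det_neg, Matrix.det_one, mul_one, hι, Odd.neg_one_pow ⟨m, rfl⟩] at hd
    linear_combination -hd
  have hle := omega_odd_stem_le hF hq m hm hexc
  rw [← coe_qOdd] at hle ⊢
  have hc := card_center_Omega_one (qOdd m F) hQ (by omega) hneg
  haveI : Finite (Spin (qOdd m F)) := spin_finite hQ (by rw [Module.finrank_pi]; omega)
  have hmax : ∀ (E : Type u) [Group E] [Finite E] (σ : E →* Cfsg.POmega F ⇑(qOdd m F)),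
      Cfsg.IsStemExtension σ → Nat.card σ.ker ≤ 2 := fun E _ _ σ hσ => by
    have := stem_card_le_pomega hQ hn hle E σ hσ
    rwa [hc, mul_one] at this
  have hT : Trio (qOdd m F) (oddVec m ⟨0, by omega⟩) (oddVec m ⟨1, by omega⟩) (oddVec m ⟨2, by omega⟩) (1 : F) :=
    ⟨one_ne_zero, (oddVec_spec m _ ⟨0, by omega⟩).1, (oddVec_spec m _ ⟨0, by omega⟩).1,
      (oddVec_spec m _ ⟨0, by omega⟩).1, (oddVec_spec m _ _).2 (by simp [Fin.ext_iff]),
      (oddVec_spec m _ _).2 (by simp [Fin.ext_iff]), (oddVec_spec m _ _).2 (by simp [Fin.ext_iff])⟩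
  obtain ⟨s, -, -, hs, hord⟩ := exists_ker_sign hQ hn h2 hT
  set σ₀ := pomegaCover hQ hn
  have h₀ : Cfsg.IsStemExtension σ₀ := pomegaCover_stem hQ hn
  have hs0 : s ∈ σ₀.ker := by
    show QuotientGroup.mk' _ (omegaCover hQ hn s) = 1
    rw [MonoidHom.mem_ker.1 hs, map_one]
  have hcard : Nat.card σ₀.ker = 2 := by
    refine le_antisymm (hmax _ σ₀ h₀) (hord ▸ ?_)
    rw [← Nat.card_zpowers]
    exact Nat.card_le_card_of_injective (Subgroup.inclusion (Subgroup.zpowers_le.2 hs0))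
      (Subgroup.inclusion_injective _)
  refine SplitLift.hasSchurMultiplier_of_max (commutator_pomega_eq_top hQ hn) σ₀ h₀ ?_ fun E _ _ σ hσ =>
    hcard ▸ hmax E σ hσ
  haveI : Fact (Nat.Prime 2) := ⟨Nat.prime_two⟩
  haveI : IsCyclic σ₀.ker := isCyclic_of_prime_card hcard
  exact ⟨mulEquivOfCyclicCardEq (by rw [hcard]; simp)⟩

end CfsgLib.Known.OrthCase
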